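import Cfsg.Agent.RepBounds.SL.Points

/-!
# The smallest non-trivial degree of `SL`
-/

set_option autoImplicit false
set_option linter.unusedSectionVars false

namespace CfsgLib.RepBounds.SLR

open Matrix Module CfsgLib.RepBounds

/-- A non-trivial representation has a non-trivial irreducible subrepresentation. -/
theorem exists_irreducible_nontrivial {G V : Type*} [Group G] [Fintype G] [AddCommGroup V] [Module ℂ V]
    [FiniteDimensional ℂ V] (ρ : Representation ℂ G V) (h : ∃ g, ρ g ≠ 1) :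
    ∃ (W : Submodule ℂ V) (σ : Representation ℂ G W), σ.IsIrreducible ∧
      (∀ g (w : W), (σ g w : V) = ρ g w) ∧ ∃ g, σ g ≠ 1 := by
  classical
  set e : End ℂ V := (Fintype.card G : ℂ)⁻¹ • ∑ g : G, ρ g with he
  have hcomm : ∀ g, ρ g * e = e := by
    intro g
    rw [he, mul_smul_comm, Finset.mul_sum]
    congr 1
    exact Fintype.sum_equiv (Equiv.mulLeft g) _ _ fun x => by simp
  have hcomm' : ∀ g, e * ρ g = e := by
    intro g
    rw [he, smul_mul_assoc, Finset.sum_mul]
    congr 1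
    exact Fintype.sum_equiv (Equiv.mulRight g) _ _ fun x => by simp
  let K : Subrepresentation ρ := ⟨LinearMap.ker e, fun g v hv => by
    have hv' : e v = 0 := hv
    show e (ρ g v) = 0
    rw [← Module.End.mul_apply, hcomm', hv']⟩
  have hK : Nontrivial K.toSubmodule := by
    rw [Submodule.nontrivial_iff_ne_bot]
    intro hbot
    obtain ⟨g, hg⟩ := h
    refine hg (LinearMap.ext fun v => sub_eq_zero.mp ((Submodule.mem_bot ℂ).mp (hbot ▸ ?_)))
    show e (ρ g v - (1 : End ℂ V) v) = 0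
    rw [map_sub, ← Module.End.mul_apply, hcomm', Module.End.one_apply, sub_self]
  obtain ⟨S, hS⟩ := CfsgLib.Characters.exists_irreducible_subrep K.toRepresentation
  let W : Submodule ℂ V := S.toSubmodule.map K.toSubmodule.subtype
  let e' : S.toSubmodule ≃ₗ[ℂ] W := Submodule.equivMapOfInjective _ K.toSubmodule.injective_subtype _
  let σ : Representation ℂ G W := CfsgLib.Characters.transport S.toRepresentation e'
  have hσ : ∀ g (w : W), (σ g w : V) = ρ g w := by
    intro g w
    obtain ⟨x, rfl⟩ := e'.surjective w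
    show ((CfsgLib.Characters.transport S.toRepresentation e') g (e' x) : V) = _
    rw [CfsgLib.Characters.transport_apply, LinearEquiv.symm_apply_apply]
    rfl
  have hirr : σ.IsIrreducible :=
    (CfsgLib.Characters.isIrreducible_congr (CfsgLib.Characters.transportEquiv _ e')).mp hS
  refine ⟨W, σ, hirr, hσ, ?_⟩
  by_contra hall
  push Not at hall
  have : Nontrivial W := CfsgLib.Characters.nontrivial_of_isIrreducible σ
  obtain ⟨w, hw⟩ := exists_ne (0 : W)
  have hfix : ∀ g, ρ g (w : V) = w := fun g => by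
    rw [← hσ, hall g, Module.End.one_apply]
  have h1 : e (w : V) = w := by
    rw [he, LinearMap.smul_apply, LinearMap.sum_apply, Finset.sum_congr rfl (fun g _ => hfix g), Finset.sum_const,
      Finset.card_univ, ← Nat.cast_smul_eq_nsmul ℂ, smul_smul,
      inv_mul_cancel₀ (Nat.cast_ne_zero.mpr Fintype.card_ne_zero), one_smul]
  obtain ⟨x, hx, hxw⟩ := w.2
  have h2 : e (w : V) = 0 := by
    rw [← hxw]
    exact x.2
  rw [h1] at h2
  exact hw (Subtype.ext h2)

variable {F : Type*} [Field F] [Fintype F] [DecidableEq F] {V : Type*} [AddCommGroup V] [Module ℂ V]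
  [FiniteDimensional ℂ V] {ε : AddChar F ℂ}

section restrict

variable {n : ℕ} (ρ : Representation ℂ (S F (n + 2)) V) (W : Submodule ℂ V) (σ : Representation ℂ (S F (n + 2)) W)
  (h : ∀ g (w : W), (σ g w : V) = ρ g w)

include h

theorem P_coe (a : Fin (n + 1) → F) (w : W) : (P ε σ a w : V) = P ε ρ a w :=
  proj_restrict _ _ W _ (fun φ w => h _ w) w

theorem R1_coe (a : Fin n → F) (w : W) : (R1 ε σ a w : V) = R1 ε ρ a w :=
  proj_restrict _ _ W _ (fun φ w => h _ w) w

theorem R2_coe (b : Fin n → F) (w : W) : (R2 ε σ b w : V) = R2 ε ρ b w :=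
  proj_restrict _ _ W _ (fun φ w => h _ w) w

theorem Hyp_restrict (hH : Hyp ε ρ) : Hyp ε σ := by
  refine ⟨fun hn c hc ψ => LinearMap.ext fun w => Subtype.ext ?_, fun hn a b ha hab => LinearMap.ext fun w => Subtype.ext ?_⟩
  · rw [Module.End.mul_apply, h, P_coe ρ W σ h, ← Module.End.mul_apply, hH.1 hn c hc ψ]
  · rw [Module.End.mul_apply, R1_coe ρ W σ h, R2_coe ρ W σ h, ← Module.End.mul_apply, hH.2 hn a b ha hab]
    rfl

end restrict

theorem proj_push_comp {A : Type*} [AddCommGroup A] [Fintype A] {B : Type*} [AddCommGroup B] [Fintype B]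
    (α : AddChar A (End ℂ V)) (f : B →+ A) (ψ : AddChar B ℂ) (X : End ℂ V)
    (h : ∀ χ : AddChar A ℂ, χ.compAddMonoidHom f = ψ → proj α χ * X = 0) :
    proj (α.compAddMonoidHom f) ψ * X = 0 := by
  classical
  rw [proj_push, Finset.sum_mul]
  exact Finset.sum_eq_zero fun χ hχ => h χ (Finset.mem_filter.mp hχ).2

section inherit

/-- The condition on weight lines passes to the Levi subgroup in dimension four. -/
theorem NM_inherit (hε : ε.IsPrimitive) (ρ : Representation ℂ (S F 4) V)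
    (hNM : NM (n := 2) ε ρ) (c : F) (hc : c ≠ 0) (t : Fin 1 → F) :
    ρ (iota (iota (uRow t))) * (R2 ε (n := 2) ρ (c • ev 2 0) * P ε ρ 0) = R2 ε (n := 2) ρ (c • ev 2 0) * P ε ρ 0 := by
  classical
  set s : S F 4 := swapEl 2 with hs
  set Z := R2 ε (n := 2) ρ (c • ev 2 0) * P ε ρ 0 with hZ
  set Zs := ρ s * Z with hZs
  have hgs : ρ (iota (iota (uRow t))) * ρ s = ρ s * ρ (iota (iota (uRow t))) := by
    rw [← map_mul, ← map_mul]
    congr 1
    refine ext_mulVec fun x => ?_
    simp only [CfsgLib.MinDegree.mul_mulVec, hs, swapEl_mulVec, iota_mulVec, uRow_mulVec]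
    funext i
    fin_cases i <;> simp [Fin.tail, dotProduct, cons_two, cons_three]
  suffices hgz : ρ (iota (iota (uRow t))) * Zs = Zs by
    rw [hZs, ← mul_assoc, hgs, mul_assoc] at hgz
    have h2 := congrArg (ρ s⁻¹ * ·) hgz
    simpa [← mul_assoc, ← map_mul] using h2
  set α0 : Fin 3 → F := Fin.cons 0 (-(c • ev 2 0)) with hα0
  have hR1 : R1 ε (n := 2) ρ (-(c • ev 2 0)) * Zs = Zs := by
    rw [hZs, ← mul_assoc, ← swap_mul_R2, mul_assoc, hZ, ← mul_assoc (R2 ε ρ _), R2_idem]
  have hrow : ∀ ψ : Fin 2 → F, ρ (iota (uRow ψ)) * Zs = Zs := by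
    intro ψ
    rw [hZs, ← mul_assoc, ← map_mul, ← swapEl_mul_uRow, map_mul, mul_assoc]
    congr 1
    rw [hZ, ← mul_assoc, R2_comm (n := 2) ρ _ (fun φ => by
      rw [← map_mul, ← map_mul, (uRow_cons_comm ψ φ).eq]), mul_assoc, uRow_mul_P_zero]
  clear_value Zs
  have hshift : ∀ x : F, ∃ ψ : Fin 2 → F, (uRow ψ).1 *ᵥ α0 = Fin.cons x (-(c • ev 2 0)) := by
    intro x
    refine ⟨![-(x / c), 0], ?_⟩
    rw [uRow_mulVec, hα0, Fin.cons_zero, Fin.tail_cons]
    funext i
    fin_cases i <;> simp [dotProduct, Fin.sum_univ_two, hc]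
  have hNMα : ρ (iota (iota (uRow t))) * P ε ρ α0 = P ε ρ α0 := by
    have h1 := hNM (-c) (neg_ne_zero.mpr hc) (Fin.cons 0 t)
    have h2 : (swapEl 1).1 *ᵥ (-c • ev 3 0) = α0 := by
      rw [swapEl_mulVec, hα0]
      funext i
      fin_cases i <;> simp [Fin.tail, cons_two]
    have h3 := iota_mul_P (ε := ε) ρ (swapEl 1) (-c • ev 3 0)
    rw [h2] at h3
    have h4 : ρ (iota (iota (uRow t))) * ρ (iota (swapEl 1)) = ρ (iota (swapEl 1)) * ρ (iota (uRow (Fin.cons 0 t))) := by
      rw [← map_mul, ← map_mul, ← map_mul, ← map_mul, swapEl_mul_uRow]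
    have h5 : ρ (iota (iota (uRow t))) * (P ε ρ α0 * ρ (iota (swapEl 1))) = P ε ρ α0 * ρ (iota (swapEl 1)) := by
      rw [← h3, ← mul_assoc, h4, mul_assoc, h1]
    have h6 := congrArg (· * ρ (iota (swapEl 1))⁻¹) h5
    simpa [mul_assoc, ← map_mul] using h6
  have hfix0 : ∀ ψ : Fin 2 → F, ψ 0 = 0 → ρ (iota (uRow ψ)) * (P ε ρ α0 * Zs) = P ε ρ α0 * Zs := by
    intro ψ hψ
    rw [← mul_assoc, iota_comm_P ρ (uRow ψ) (by
      rw [uRow_mulVec, hα0, Fin.cons_zero, Fin.tail_cons]
      funext i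
      fin_cases i <;> simp [dotProduct, Fin.sum_univ_two, hψ]), mul_assoc, hrow]
  have hcomp : ∀ x : F, ρ (iota (iota (uRow t))) * (P ε ρ (Fin.cons x (-(c • ev 2 0))) * Zs) =
      P ε ρ (Fin.cons x (-(c • ev 2 0))) * Zs := by
    intro x
    obtain ⟨ψ, hψ⟩ := hshift x
    have e1 : P ε ρ (Fin.cons x (-(c • ev 2 0))) * Zs = ρ (iota (uRow ψ)) * (P ε ρ α0 * Zs) := by
      rw [← mul_assoc, iota_mul_P, hψ, mul_assoc, hrow]
    rw [e1, ← mul_assoc, ← map_mul, ← map_mul iota, iota_mul_uRow, map_mul, map_mul, mul_assoc,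
      ← mul_assoc (ρ (iota (iota (uRow t)))), hNMα]
    have key : ∀ φ : Fin 2 → F, φ 0 = ψ 0 →
        ρ (iota (uRow φ)) * (P ε ρ α0 * Zs) = ρ (iota (uRow ψ)) * (P ε ρ α0 * Zs) := by
      intro φ hφ
      conv_lhs => rw [show φ = ψ + (φ - ψ) by abel, ← zRow_apply, AddChar.map_add_eq_mul, map_mul, map_mul,
        zRow_apply, zRow_apply, mul_assoc, hfix0 (φ - ψ) (by rw [Pi.sub_apply, hφ, sub_self])]
    refine key _ ?_
    have hinv : ((uRow t)⁻¹ : S F 2) = uRow (-t) := by
      rw [← zRow_apply, ← zRow_apply, AddChar.map_neg_eq_inv]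
    rw [hinv]
    have h9 : (ψ ᵥ* (uRow (-t)).1) ⬝ᵥ ev 2 0 = ψ ⬝ᵥ ev 2 0 := by
      rw [← Matrix.dotProduct_mulVec, uRow_mulVec_ev]
    simpa using h9
  rw [← hR1, R1_eq_sum (n := 2) ρ hε, Finset.sum_mul, Finset.mul_sum]
  exact Finset.sum_congr rfl fun x _ => hcomp x

/-- The absence of weights of rank two passes to the Levi subgroup. -/
theorem Good_inherit (hε : ε.IsPrimitive) {n : ℕ} (ρ : Representation ℂ (S F (n + 3)) V)
    (hG : Good (n := n + 1) ε ρ) (a b : Fin n → F) (ha : a ≠ 0) (hab : ∀ c : F, b ≠ c • a) :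
    R1 ε (n := n) (MonoidHom.comp ρ iota) a * R2 ε (n := n) (MonoidHom.comp ρ iota) b = 0 := by
  classical
  let α : AddChar (Fin (n + 1) → F) (End ℂ V) :=
    (resChar ρ (zRow F (n + 2))).compAddMonoidHom (embTail F (n + 1))
  set Y := proj (α.compAddMonoidHom (embTail F n)) (col ε a) with hY
  have hb : ∀ x, col ε (Fin.cons x b) = col ε (Fin.cons x b) := fun _ => rfl
  have hYR : ∀ b' : Fin n → F, (∀ c : F, b' ≠ c • a) → Y * R1 ε (n := n) (MonoidHom.comp ρ iota) b' = 0 := by
    intro b' hb'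
    refine proj_push_comp α (embTail F n) (col ε a) _ fun χ hχ => ?_
    obtain ⟨a', rfl⟩ := (col_bijective ε hε).2 χ
    have ha' : Fin.tail a' = a := by
      apply col_injective ε hε
      rw [← hχ]
      refine DFunLike.ext _ _ fun φ => ?_
      simp [AddChar.compAddMonoidHom_apply, col_apply, embTail, dotProduct, Fin.sum_univ_succ, Fin.tail]
    rw [R1_eq_sum (n := n) (MonoidHom.comp ρ iota) hε, Finset.mul_sum]
    refine Finset.sum_eq_zero fun x _ => hG a' (Fin.cons x b') ?_ ?_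
    · rintro rfl
      exact ha ha'.symm
    · intro d hd
      refine hb' d ?_
      have h1 := congrArg Fin.tail hd
      rw [Fin.tail_cons] at h1
      rw [h1, ← ha']
      rfl
  set s : S F (n + 2) := swapEl n
  set T := ρ (swapEl (n + 1)) with hT
  have hswap1 : T * Y = R1 ε (n := n) (MonoidHom.comp ρ iota) a * T := by
    simp only [hY, R1, α, proj, mul_smul_comm, smul_mul_assoc, Finset.mul_sum, Finset.sum_mul,
      AddChar.compAddMonoidHom_apply, resChar_apply, zRow_apply, MonoidHom.comp_apply, hT]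
    congr 1
    refine Finset.sum_congr rfl fun φ _ => ?_
    rw [← map_mul, ← map_mul]
    congr 2
    exact swapEl_mul_uRow (Fin.cons 0 φ)
  have hswap2 : T * R2 ε (n := n) (MonoidHom.comp ρ iota) b = R2 ε (n := n) (MonoidHom.comp ρ iota) b * T := by
    refine R2_comm (n := n) (MonoidHom.comp ρ iota) T (fun ψ => ?_) b
    rw [hT, MonoidHom.comp_apply, ← map_mul, ← map_mul]
    congr 1
    refine ext_mulVec fun x => ?_
    simp only [CfsgLib.MinDegree.mul_mulVec, swapEl_mulVec, iota_mulVec, uRow_mulVec]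
    funext i
    refine Fin.cases ?_ (fun j => Fin.cases ?_ (fun l => Fin.cases ?_ (fun r => ?_) l) j) i <;>
      simp [Fin.tail, cons_two]
  set U := ρ (iota s) with hU
  have hfixY : U * Y = Y * U := by
    refine proj_comm _ _ U fun φ => ?_
    simp only [α, AddChar.compAddMonoidHom_apply, resChar_apply, zRow_apply, hU, ← map_mul]
    congr 1
    rw [iota_mul_uRow]
    congr 2
    show (Fin.cons 0 (Fin.cons 0 φ) : Fin (n + 2) → F) ᵥ* (s⁻¹).1 = Fin.cons 0 (Fin.cons 0 φ)
    have hfix : (Fin.cons 0 (Fin.cons 0 φ) : Fin (n + 2) → F) ᵥ* s.1 = Fin.cons 0 (Fin.cons 0 φ) := by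
      refine dotProduct_eq _ _ fun x => ?_
      rw [← Matrix.dotProduct_mulVec, swapEl_mulVec]
      simp [dotProduct, Fin.sum_univ_succ, Fin.tail]
    nth_rewrite 1 [← hfix]
    rw [Matrix.vecMul_vecMul, ← Matrix.SpecialLinearGroup.coe_mul, mul_inv_cancel,
      Matrix.SpecialLinearGroup.coe_one, Matrix.vecMul_one]
  have hconj : U * R1 ε (n := n) (MonoidHom.comp ρ iota) b = R2 ε (n := n) (MonoidHom.comp ρ iota) b * U := by
    exact swap_mul_R1 (n := n) (MonoidHom.comp ρ iota) b
  have h1 : Y * R2 ε (n := n) (MonoidHom.comp ρ iota) b = 0 := by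
    have h2 : Y * R2 ε (n := n) (MonoidHom.comp ρ iota) b * U = 0 := by
      rw [mul_assoc, ← hconj, ← mul_assoc, ← hfixY, mul_assoc, hYR b hab, mul_zero]
    have h3 := congrArg (· * ρ (iota s)⁻¹) h2
    simpa [hU, mul_assoc, ← map_mul] using h3
  have h4 : R1 ε (n := n) (MonoidHom.comp ρ iota) a * R2 ε (n := n) (MonoidHom.comp ρ iota) b * T = 0 := by
    rw [mul_assoc, ← hswap2, ← mul_assoc, ← hswap1, mul_assoc, h1, mul_zero]
  have h5 := congrArg (· * ρ (swapEl (n + 1))⁻¹) h4
  simpa [hT, mul_assoc, ← map_mul] using h5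

end inherit

/-- `q + q² + … + q^(N-1)`. -/
def target (q N : ℕ) : ℕ := q * ∑ i ∈ Finset.range (N - 1), q ^ i

theorem target_eq (q m : ℕ) (hq : 1 ≤ q) :
    target q (m + 2) + 1 = q ^ (m + 1) + ∑ i ∈ Finset.range (m + 1), q ^ i := by
  rw [target, show m + 2 - 1 = m + 1 from rfl]
  have h := Finset.sum_range_succ (fun i => q ^ i) (m + 1)
  have h' := Finset.sum_range_succ' (fun i => q ^ i) (m + 1)
  simp only [pow_succ, ← Finset.sum_mul, pow_zero] at h'
  rw [h] at h'
  rw [mul_comm q]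
  omega

theorem two_mul_ge (q : ℕ) (hq : 2 ≤ q) (m : ℕ) : target q (m + 2) ≤ 2 * (q ^ (m + 1) - 1) := by
  induction m with
  | zero =>
    simp [target]
    omega
  | succ m ih =>
    have h1 : target q (m + 3) = q * (1 + target q (m + 2)) := by
      rw [target, target, show m + 3 - 1 = (m + 1) + 1 from rfl, show m + 2 - 1 = m + 1 from rfl,
        Finset.sum_range_succ']
      simp only [pow_succ', ← Finset.mul_sum, pow_zero]
      ring
    rw [h1]
    have h2 : 1 ≤ q ^ (m + 1) := Nat.one_le_pow _ _ (by omega)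
    have h3 : q * (1 + target q (m + 2)) ≤ q * (1 + 2 * (q ^ (m + 1) - 1)) := Nat.mul_le_mul_left q (by omega)
    obtain ⟨X, hX⟩ : ∃ X, q ^ (m + 1) = X + 1 := ⟨q ^ (m + 1) - 1, by omega⟩
    rw [hX] at h3
    rw [Nat.add_sub_cancel] at h3
    rw [pow_succ, hX]
    have h4 : (X + 1) * q = X * q + q := by ring
    have h5 : q * (1 + 2 * X) = q + 2 * (X * q) := by ring
    omega

theorem no_exception (q m k d : ℕ) (hq : 2 ≤ q) (hm : 1 ≤ m)
    (hd : d + 1 = ∑ i ∈ Finset.range (m + 1), q ^ i) (hk : k + 1 = q ^ (m + 1) + d)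
    (hdvd : k ∣ (∑ i ∈ Finset.range (m + 2), q ^ i) * d ^ 2 * (q ^ (m + 1)) ^ 2) : False := by
  have hN : ∑ i ∈ Finset.range (m + 2), q ^ i = k + 2 := by
    rw [Finset.sum_range_succ, ← hd]
    omega
  have hN' : ∑ i ∈ Finset.range (m + 2), q ^ i = q * (d + 1) + 1 := by
    rw [Finset.sum_range_succ', ← hd.symm]
    simp only [pow_succ', ← Finset.mul_sum, pow_zero]
  have hkq : k + 1 = q * (d + 1) := by omega
  have hcop : Nat.Coprime k q := by
    rw [Nat.coprime_iff_gcd_eq_one]
    refine Nat.eq_one_of_dvd_one ?_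
    have h1 := (Nat.gcd_dvd_right k q).mul_right (d + 1)
    rw [← hkq] at h1
    exact (Nat.dvd_add_right (Nat.gcd_dvd_left k q)).mp h1
  rw [hN] at hdvd
  have h2 : k ∣ (k + 2) * d ^ 2 :=
    (Nat.Coprime.dvd_mul_right (((hcop.pow_right (m + 1))).pow_right 2)).mp hdvd
  have h3 : k ∣ 2 * d ^ 2 := by
    rw [add_mul] at h2
    exact (Nat.dvd_add_right (dvd_mul_right k _)).mp h2
  have h4 : (k : ℤ) ∣ 2 * ((q : ℤ) - 1) ^ 2 := by
    have h5 : (k : ℤ) ∣ 2 * (d : ℤ) ^ 2 := by exact_mod_cast h3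
    have h6 : (q : ℤ) * d = (k : ℤ) - ((q : ℤ) - 1) := by
      have : (k : ℤ) + 1 = q * (d + 1) := by exact_mod_cast hkq
      linarith
    have h7 : (2 : ℤ) * ((q : ℤ) - 1) ^ 2 = (q : ℤ) ^ 2 * (2 * (d : ℤ) ^ 2) + (k : ℤ) * (4 * ((q : ℤ) - 1) - 2 * k) := by
      rw [show (q : ℤ) ^ 2 * (2 * (d : ℤ) ^ 2) = 2 * ((q : ℤ) * d) ^ 2 by ring, h6]
      ring
    rw [h7]
    exact dvd_add (Dvd.dvd.mul_left h5 _) (dvd_mul_right _ _)
  obtain ⟨Q, rfl⟩ : ∃ Q, q = Q + 2 := ⟨q - 2, by omega⟩
  have h8 : k ∣ 2 * (Q + 1) ^ 2 := by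
    have : (2 : ℤ) * (((Q + 2 : ℕ) : ℤ) - 1) ^ 2 = ((2 * (Q + 1) ^ 2 : ℕ) : ℤ) := by push_cast; ring
    rw [this] at h4
    exact_mod_cast h4
  obtain ⟨j, hj⟩ := h8
  have hj0 : 1 ≤ j := by
    rcases Nat.eq_zero_or_pos j with rfl | h
    · rw [mul_zero] at hj
      exact absurd hj (by positivity)
    · exact h
  rcases eq_or_lt_of_le hm with hm1 | hm2
  · subst hm1
    simp [Finset.sum_range_succ] at hd
    have hk1 : k + 1 = (Q + 2) * (Q + 2) + (Q + 2) := by rw [hkq, hd]; ring
    have hj2 : j < 2 := by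
      by_contra hge
      push Not at hge
      nlinarith [Nat.mul_le_mul_left k hge]
    obtain rfl : j = 1 := by omega
    rw [mul_one] at hj
    rcases Nat.lt_or_ge Q 3 with hQ | hQ
    · interval_cases Q <;> omega
    · nlinarith
  · have h9 : (Q + 2) ^ 2 + (Q + 2) + 1 ≤ d + 1 := by
      rw [hd]
      refine le_trans (le_of_eq ?_) (Finset.sum_le_sum_of_subset (show Finset.range 3 ⊆ Finset.range (m + 1) by
        intro x; simp; omega))
      simp [Finset.sum_range_succ]
      ring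
    nlinarith [Nat.mul_le_mul_left k hj0, Nat.mul_le_mul_left (Q + 2) h9]

/-- The bound for representations satisfying the propagated conditions. -/
theorem target_le (hε : ε.IsPrimitive) : ∀ (m : ℕ), 1 ≤ m → ∀ (V : Type) [AddCommGroup V] [Module ℂ V]
    [FiniteDimensional ℂ V] (ρ : Representation ℂ (S F (m + 2)) V), Hyp ε ρ → (∃ g, ρ g ≠ 1) →
    target (Fintype.card F) (m + 2) ≤ finrank ℂ V := by
  classical
  intro m
  induction m using Nat.strong_induction_on with
  | _ m IH =>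
  intro hm V₀ _ _ _ ρ₀ hH₀ hne₀
  obtain ⟨W, σ, hirr, hσ, hne⟩ := exists_irreducible_nontrivial ρ₀ hne₀
  have hH := Hyp_restrict ρ₀ W σ hσ hH₀
  refine le_trans ?_ (Submodule.finrank_le W)
  clear hH₀ hne₀
  set q := Fintype.card F with hq
  have hq2 : 2 ≤ q := Fintype.one_lt_card
  have he0 : ev (m + 1) 0 ≠ (0 : Fin (m + 1) → F) := fun h => one_ne_zero (α := F) (by simpa using congrFun h 0)
  have hfin := finrank_eq (ε := ε) σ hε (by omega) he0
  rw [← hq] at hfin
  set μ := rnk (P ε σ (ev (m + 1) 0)) with hμ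
  set d := rnk (P ε σ 0) with hd
  have hall : ∀ a : Fin (m + 1) → F, a ≠ 0 → rnk (P ε σ a) = μ := fun a ha => rnk_P_eq σ (by omega) ha he0
  have hμ0 : μ ≠ 0 := by
    intro h0
    obtain ⟨g, hg⟩ := hne
    exact hg (apply_eq_one_of_P σ hε (fun a ha => eq_zero_of_rnk (by rw [hall a ha, h0])) g)
  rcases Nat.lt_or_ge μ 2 with hμ1 | hμ2
  swap
  · refine (two_mul_ge q hq2 m).trans ?_
    rw [hfin, mul_comm 2]
    exact (Nat.mul_le_mul_left _ hμ2).trans (Nat.le_add_left _ _)
  have hm1 : ∀ a : Fin (m + 1) → F, a ≠ 0 → rnk (P ε σ a) = 1 := fun a ha => by rw [hall a ha]; omega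
  rw [show μ = 1 by omega, mul_one] at hfin
  have hR1 : rnk (R1 ε σ (0 : Fin m → F)) = d + (q - 1) := by
    rw [rnk_R1 σ hε, ← Finset.add_sum_erase _ _ (Finset.mem_univ (0 : F))]
    congr 1
    · rw [hd]
      congr 2
      funext i
      refine Fin.cases ?_ (fun j => ?_) i <;> simp
    · rw [Finset.sum_congr rfl (fun c hc => hm1 _ (fun h => Finset.ne_of_mem_erase hc (by
        simpa using congrFun h 0))), Finset.sum_const, Finset.card_erase_of_mem (Finset.mem_univ _), Finset.card_univ,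
        smul_eq_mul, mul_one]
  suffices hD : ∑ i ∈ Finset.range (m + 1), q ^ i ≤ d + 1 by
    by_contra hlt
    push Not at hlt
    have hT := target_eq q m (by omega)
    have hpow : 1 ≤ q ^ (m + 1) := Nat.one_le_pow _ _ (by omega)
    have := hirr
    refine no_exception q m (finrank ℂ W) d hq2 hm ?_ ?_ (finrank_dvd (ε := ε) σ)
    · omega
    · omega
  rcases Nat.lt_or_ge m 2 with hm' | hm'
  · obtain rfl : m = 1 := by omega
    have hNM := hH.1 rfl
    simp only [Finset.sum_range_succ, Finset.sum_range_zero, pow_zero, pow_one, zero_add]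
    have hd0 : ∀ c : F, (Fin.cons c (0 : Fin 1 → F) : Fin 2 → F) = c • ev 2 0 := fun c => by
      funext i
      refine Fin.cases ?_ (fun j => ?_) i <;> simp
    -- the weights of the second column
    have hrow : ∀ a : Fin 1 → F, a ≠ 0 → rnk (R1 ε σ a * R2 ε σ (0 : Fin 1 → F)) = 1 := by
      intro a ha
      have hsum := sum_rnk_Q_eq σ hε hm1 ha
      have hall' : ∀ b : Fin 1 → F, rnk (R1 ε σ a * R2 ε σ b) = rnk (R1 ε σ a * R2 ε σ (0 : Fin 1 → F)) := by
        intro b
        have ha0 : a 0 ≠ 0 := fun h => ha (funext fun i => by rw [Fin.fin_one_eq_zero i]; exact h)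
        rw [show b = (b 0 / a 0) • a from funext fun i => by rw [Fin.fin_one_eq_zero i]; simp [ha0]]
        exact rnk_Q_row σ a _
      rw [Finset.sum_congr rfl (fun b _ => hall' b), Finset.sum_const, Finset.card_univ, Fintype.card_fun,
        Fintype.card_fin, pow_one, smul_eq_mul] at hsum
      exact (mul_eq_left₀ (by omega : q ≠ 0)).mp hsum
    have hQ0 : rnk (R1 ε σ (0 : Fin 1 → F) * R2 ε σ (0 : Fin 1 → F)) = d := by
      have h1 := sum_rnk_Q σ hε (0 : Fin 1 → F)
      rw [hR1, ← Finset.add_sum_erase _ _ (Finset.mem_univ (0 : Fin 1 → F))] at h1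
      have h2 : ∀ b ∈ (Finset.univ : Finset (Fin 1 → F)).erase 0,
          rnk (R1 ε σ (0 : Fin 1 → F) * R2 ε σ b) = 1 := fun b hb => by
        rw [rnk_Q_swap, hrow _ (neg_ne_zero.mpr (Finset.ne_of_mem_erase hb))]
      rw [Finset.sum_congr rfl h2, Finset.sum_const, Finset.card_erase_of_mem (Finset.mem_univ _), Finset.card_univ,
        Fintype.card_fun, Fintype.card_fin, pow_one, smul_eq_mul, mul_one, ← hq] at h1
      omega
    set f := R1 ε σ (0 : Fin 1 → F) * R2 ε σ (0 : Fin 1 → F) with hf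
    have hR1P : ∀ c : F, R1 ε σ (0 : Fin 1 → F) * P ε σ (Fin.cons c 0) = P ε σ (Fin.cons c 0) := by
      intro c
      rw [R1_eq_sum σ hε, Finset.sum_mul, Finset.sum_eq_single c (fun x _ hx => P_orth σ hε (fun h => hx (by
        simpa using congrFun h 0))) (by simp), P_idem]
    have hR2P : ∀ c : F, c ≠ 0 → R2 ε σ (0 : Fin 1 → F) * P ε σ (c • ev 2 0) = P ε σ (c • ev 2 0) := by
      intro c hc
      simp only [R2]
      nth_rewrite 1 [P]
      simp only [col_zero, proj, smul_mul_assoc, Finset.sum_mul, AddChar.zero_apply, one_smul, resChar_apply,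
        MonoidHom.comp_apply, zRow_apply, hNM c hc, Finset.sum_const, Finset.card_univ]
      rw [← Nat.cast_smul_eq_nsmul ℂ, smul_smul, inv_mul_cancel₀ (Nat.cast_ne_zero.mpr Fintype.card_ne_zero), one_smul]
    have hR2comm : R2 ε σ (0 : Fin 1 → F) * P ε σ 0 = P ε σ 0 * R2 ε σ (0 : Fin 1 → F) :=
      (R2_comm σ _ (fun ψ => (iota_comm_P (ε := ε) σ (uRow ψ) (Matrix.mulVec_zero _)).symm) 0).symm
    have heH : P ε σ 0 * R2 ε σ (0 : Fin 1 → F) * (P ε σ 0 * R2 ε σ (0 : Fin 1 → F)) =
        P ε σ 0 * R2 ε σ (0 : Fin 1 → F) := by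
      rw [mul_assoc, ← mul_assoc (R2 ε σ _), hR2comm, mul_assoc, R2_idem, ← mul_assoc, P_idem]
    let Ec : F → End ℂ W := fun c => if c = 0 then P ε σ 0 * R2 ε σ (0 : Fin 1 → F) else P ε σ (c • ev 2 0)
    have hle := sum_rnk_le Finset.univ Ec f (fun c _ => by
        simp only [Ec]; split_ifs
        · exact heH
        · exact P_idem σ _)
      (fun c _ c' _ hcc => by
        simp only [Ec]
        split_ifs with h1 h2 h2
        · exact absurd (h1.trans h2.symm) hcc
        · rw [← hR2comm, mul_assoc, P_orth σ hε (fun h => h2 (by simpa using (congrFun h 0).symm)), mul_zero]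
        · rw [← mul_assoc, P_orth σ hε (fun h => h1 (by simpa using congrFun h 0)), zero_mul]
        · exact P_orth σ hε (fun h => hcc (by simpa using congrFun h 0)))
      (fun c _ => by
        simp only [Ec]
        split_ifs with h1
        · have h0 := hR1P 0
          rw [hd0, zero_smul] at h0
          rw [hf, mul_assoc, ← mul_assoc (R2 ε σ _), hR2comm, mul_assoc, R2_idem, ← mul_assoc, h0]
        · have h0 := hR1P c
          rw [hd0] at h0
          rw [hf, mul_assoc, hR2P c h1, h0])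
    rw [hQ0, ← Finset.add_sum_erase _ _ (Finset.mem_univ (0 : F))] at hle
    simp only [Ec, if_true] at hle
    rw [Finset.sum_congr rfl (fun c hc => by
      rw [if_neg (Finset.ne_of_mem_erase hc),
        hm1 _ (fun h => Finset.ne_of_mem_erase hc (by simpa using congrFun h 0))]), Finset.sum_const,
      Finset.card_erase_of_mem (Finset.mem_univ _), Finset.card_univ, smul_eq_mul, mul_one, ← hq] at hle
    rcases Nat.eq_zero_or_pos (rnk (P ε σ 0 * R2 ε σ (0 : Fin 1 → F))) with h0 | h0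
    · have h3 := points_mul_le σ (eq_zero_of_rnk h0)
      simp only [Finset.sum_range_succ, Finset.sum_range_zero, pow_zero, pow_one, zero_add, ← hq, ← hd, hfin] at h3
      by_contra hlt
      push Not at hlt
      have hd1 : 1 ≤ d := by omega
      obtain ⟨Q, hQ⟩ : ∃ Q, q = Q + 2 := ⟨q - 2, by omega⟩
      rw [hQ] at h3 hlt hle
      have hsub : (Q + 2) ^ (1 + 1) - 1 = Q * Q + 4 * Q + 3 := by ring_nf; omega
      rw [hsub] at h3
      nlinarith
    · omega
  · obtain ⟨p, rfl⟩ : ∃ p, m = p + 1 := ⟨m - 1, by omega⟩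
    have hGood := hH.2 hm'
    set e0 := P ε σ 0 with he0def
    have hinv : ∀ g : S F (p + 2), ∀ w ∈ LinearMap.range e0, σ (iota g) w ∈ LinearMap.range e0 := by
      rintro g _ ⟨w, rfl⟩
      exact ⟨σ (iota g) w, LinearMap.congr_fun (iota_comm_P (ε := ε) σ g (Matrix.mulVec_zero _)).symm w⟩
    let τ : Representation ℂ (S F (p + 2)) (LinearMap.range e0) :=
      { toFun := fun g => (σ (iota g)).restrict (hinv g)
        map_one' := LinearMap.ext fun w => Subtype.ext (by simp)
        map_mul' := fun g g' => LinearMap.ext fun w => Subtype.ext (by simp) }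
    have hτ : ∀ g (w : LinearMap.range e0), (τ g w : W) = (MonoidHom.comp σ iota) g w := fun g w => rfl
    have hP0 : ∀ w : LinearMap.range e0, e0 (w : W) = w := by
      rintro ⟨_, v, rfl⟩
      exact LinearMap.congr_fun (P_idem σ 0) v
    have hHτ : Hyp ε τ := by
      refine ⟨fun hp c hc t => LinearMap.ext fun w => Subtype.ext ?_,
        fun hp a b ha hab => LinearMap.ext fun w => Subtype.ext ?_⟩
      · subst hp
        rw [Module.End.mul_apply, hτ, P_coe (MonoidHom.comp σ iota) _ τ hτ, ← hP0 w]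
        exact LinearMap.congr_fun (NM_inherit hε σ (NM_of_two_le σ le_rfl hm1) c hc t) w
      · rw [Module.End.mul_apply, R1_coe (MonoidHom.comp σ iota) _ τ hτ, R2_coe (MonoidHom.comp σ iota) _ τ hτ,
          ← Module.End.mul_apply, Good_inherit hε σ hGood a b ha hab]
        rfl
    have hneτ : ∃ g, τ g ≠ 1 := by
      by_contra hall'
      push Not at hall'
      have hfix : ∀ ψ : Fin (p + 1) → F, σ (iota (uRow ψ)) * e0 = e0 := fun ψ => by
        refine LinearMap.ext fun v => ?_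
        have h1 := congrArg Subtype.val (LinearMap.congr_fun (hall' (uRow ψ)) ⟨e0 v, v, rfl⟩)
        exact h1
      have hQe : ∀ b : Fin (p + 1) → F, b ≠ 0 → R2 ε σ b * e0 = 0 := by
        intro b hb
        simp only [R2]
        nth_rewrite 1 [P]
        simp only [proj, smul_mul_assoc, Finset.sum_mul, resChar_apply, MonoidHom.comp_apply, zRow_apply, hfix,
          ← Finset.sum_smul]
        have h0 : ∑ ψ : Fin (p + 1) → F, col ε b (-ψ) = 0 := by
          rw [Fintype.sum_equiv (Equiv.neg _) (fun ψ => col ε b (-ψ)) (fun ψ => col ε b ψ) (fun ψ => rfl),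
            AddChar.sum_eq_ite, if_neg]
          intro h
          exact hb (col_injective ε hε (h.trans (col_zero ε).symm))
        rw [h0, zero_smul, smul_zero]
      have hcount : ∀ a : Fin (p + 1) → F, a ≠ 0 → rnk (R1 ε σ a * R2 ε σ (0 : Fin (p + 1) → F)) = 1 := by
        intro a ha
        have hsum := sum_rnk_Q_eq σ hε hm1 ha
        rw [← Finset.sum_subset (Finset.subset_univ (Finset.univ.image fun c : F => c • a)) (fun b _ hb => by
          have h := hGood a b ha (fun c hc => hb (Finset.mem_image.mpr ⟨c, Finset.mem_univ _, hc.symm⟩))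
          simp [h, rnk]),
          Finset.sum_image (fun c _ c' _ h => smul_left_injective F ha h),
          Finset.sum_congr rfl (fun c _ => rnk_Q_row σ a c), Finset.sum_const, Finset.card_univ, smul_eq_mul] at hsum
        exact (mul_eq_left₀ Fintype.card_ne_zero).mp hsum
      have hR1e : R1 ε σ (0 : Fin (p + 1) → F) * e0 = e0 := by
        rw [R1_eq_sum σ hε, Finset.sum_mul, Finset.sum_eq_single (0 : F)]
        · have hz : (Fin.cons 0 (0 : Fin (p + 1) → F) : Fin (p + 2) → F) = 0 := by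
            funext i
            refine Fin.cases ?_ (fun j => ?_) i <;> simp
          rw [hz, P_idem]
        · intro x _ hx
          exact P_orth σ hε (fun h => hx (by simpa using congrFun h 0))
        · simp
      have he0R1 : e0 * R1 ε σ (0 : Fin (p + 1) → F) = R1 ε σ (0 : Fin (p + 1) → F) * e0 :=
        R1_comm σ _ (fun φ => (fix_comm_P_zero (ε := ε) σ (uRow (Fin.cons 0 φ)) 1
          (by rw [uRow_mulVec_ev, one_smul])).symm) 0
      have he0R2 : ∀ b, e0 * R2 ε σ b = R2 ε σ b * e0 := fun b =>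
        R2_comm σ _ (fun ψ => (iota_comm_P (ε := ε) σ (uRow ψ) (Matrix.mulVec_zero _)).symm) b
      let E : (Fin (p + 1) → F) → End ℂ W := fun b =>
        if b = 0 then e0 else R1 ε σ (0 : Fin (p + 1) → F) * R2 ε σ b
      have hle := sum_rnk_le Finset.univ E (R1 ε σ (0 : Fin (p + 1) → F))
        (fun b _ => by
          simp only [E]; split_ifs
          · exact P_idem σ 0
          · exact Q_idem σ 0 b)
        (fun b _ b' _ hbb => by
          simp only [E]
          split_ifs with h1 h2 h2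
          · exact absurd (h1.trans h2.symm) hbb
          · rw [← mul_assoc, he0R1, hR1e, he0R2, hQe b' h2]
          · rw [mul_assoc, hQe b h1, mul_zero]
          · rw [mul_assoc, ← mul_assoc (R2 ε σ b), ← R1_R2_comm, mul_assoc (R1 ε σ 0) (R2 ε σ b),
              R2, R2, P_orth _ hε hbb, mul_zero, mul_zero])
        (fun b _ => by
          simp only [E]; split_ifs
          · exact hR1e
          · rw [← mul_assoc, R1_idem])
      rw [hR1, ← Finset.add_sum_erase _ _ (Finset.mem_univ (0 : Fin (p + 1) → F))] at hle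
      simp only [E, if_true] at hle
      rw [Finset.sum_congr rfl (fun b hb => by
        rw [if_neg (Finset.ne_of_mem_erase hb), rnk_Q_swap, hcount _ (neg_ne_zero.mpr (Finset.ne_of_mem_erase hb))]),
        Finset.sum_const, Finset.card_erase_of_mem (Finset.mem_univ _), Finset.card_univ, Fintype.card_fun,
        Fintype.card_fin, smul_eq_mul, mul_one, ← hq, ← hd] at hle
      have : q * 2 ≤ q ^ (p + 1) := by
        calc q * 2 ≤ q * q := Nat.mul_le_mul_left q hq2
          _ = q ^ 2 := by ring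
          _ ≤ q ^ (p + 1) := Nat.pow_le_pow_right (by omega) hm'
      omega
    have hIH := IH p (Nat.lt_succ_self p) (by omega) (LinearMap.range e0) τ hHτ hneτ
    have hd' : finrank ℂ (LinearMap.range e0) = d := rfl
    rw [hd', target, show p + 2 - 1 = p + 1 from rfl] at hIH
    rw [Finset.sum_range_succ' (fun i => q ^ i)]
    simp only [pow_succ', ← Finset.mul_sum, pow_zero]
    omega

/-- The degree bound for `SL (m+2)`. -/
theorem target_le_of_irreducible (hε : ε.IsPrimitive) (m : ℕ) (hm : 1 ≤ m) (V : Type) [AddCommGroup V]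
    [Module ℂ V] [FiniteDimensional ℂ V] (ρ : Representation ℂ (S F (m + 2)) V) (hirr : ρ.IsIrreducible)
    (hk : 2 ≤ finrank ℂ V) (h3 : m = 1 → ∃ a : Fˣ, (a : F) ^ 3 ≠ 1) (h4 : m = 2 → ∃ t : Fˣ, (t : F) ^ 2 ≠ 1) :
    target (Fintype.card F) (m + 2) ≤ finrank ℂ V := by
  have hne := exists_ne_one ρ hirr hk
  have he0 : ev (m + 1) 0 ≠ (0 : Fin (m + 1) → F) := fun h => one_ne_zero (α := F) (by simpa using congrFun h 0)
  rcases Nat.lt_or_ge (rnk (P ε ρ (ev (m + 1) 0))) 2 with hμ | hμ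
  swap
  · refine (two_mul_ge _ Fintype.one_lt_card m).trans ?_
    rw [finrank_eq (ε := ε) ρ hε (by omega) he0, mul_comm 2]
    exact (Nat.mul_le_mul_left _ hμ).trans (Nat.le_add_left _ _)
  have hall : ∀ a : Fin (m + 1) → F, a ≠ 0 → rnk (P ε ρ a) = 1 := by
    intro a ha
    rw [rnk_P_eq ρ (by omega) ha he0]
    rcases Nat.eq_zero_or_pos (rnk (P ε ρ (ev (m + 1) 0))) with h0 | h0
    · obtain ⟨g, hg⟩ := hne
      exact absurd (apply_eq_one_of_P ρ hε (fun b hb => eq_zero_of_rnk (by
        rw [rnk_P_eq ρ (by omega) hb he0, h0])) g) hg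
    · omega
  refine target_le hε m hm V ρ ⟨fun hm1 => ?_, fun hm2 => ?_⟩ hne
  · subst hm1
    exact NM_three ρ hall (h3 rfl)
  · rcases Nat.lt_or_ge m 3 with h | h
    · obtain rfl : m = 2 := by omega
      exact Good_two ρ hε (h4 rfl) hall
    · exact Good_of_three_le ρ hε h hall

end CfsgLib.RepBounds.SLR
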