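import Cfsg.Agent.RepBounds.SL.Weights

/-!
# The two conditions on the weights propagated in the induction for `SL`
-/

set_option autoImplicit false
set_option linter.unusedSectionVars false

namespace CfsgLib.RepBounds.SLR

open Matrix Module CfsgLib.RepBounds

variable {F : Type*} [Field F] [Fintype F] [DecidableEq F] {V : Type*} [AddCommGroup V] [Module ℂ V]
  [FiniteDimensional ℂ V] {ε : AddChar F ℂ}

/-- The stabiliser of a weight line of the first row acts trivially on it through its unipotent radical. -/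
def NM (ε : AddChar F ℂ) {n : ℕ} (ρ : Representation ℂ (S F (n + 2)) V) : Prop :=
  ∀ c : F, c ≠ 0 → ∀ ψ : Fin n → F,
    ρ (iota (uRow ψ)) * P ε ρ (c • ev (n + 1) 0) = P ε ρ (c • ev (n + 1) 0)

/-- The weights of the first two rows have rank at most one. -/
def Good (ε : AddChar F ℂ) {n : ℕ} (ρ : Representation ℂ (S F (n + 2)) V) : Prop :=
  ∀ a b : Fin n → F, a ≠ 0 → (∀ c : F, b ≠ c • a) → R1 ε ρ a * R2 ε ρ b = 0

/-- Both conditions. -/
def Hyp (ε : AddChar F ℂ) {n : ℕ} (ρ : Representation ℂ (S F (n + 2)) V) : Prop :=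
  (n = 1 → NM ε ρ) ∧ (2 ≤ n → Good ε ρ)

theorem eq_smul_of_rnk_one {e X : End ℂ V} (he : e * e = e) (h1 : rnk e = 1) (hX : X * e = e * X) :
    X * e = LinearMap.trace ℂ V (X * e) • e := by
  obtain ⟨w, hw0, hw⟩ := finrank_eq_one_iff'.mp h1
  obtain ⟨c, hc⟩ := hw ⟨X (w : V), by
    obtain ⟨v, hv⟩ := w.2
    exact ⟨X v, by rw [← Module.End.mul_apply, ← hX, Module.End.mul_apply, hv]⟩⟩
  have h2 : X * e = c • e := by
    refine LinearMap.ext fun v => ?_
    obtain ⟨a, ha⟩ := hw ⟨e v, v, rfl⟩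
    have ha' : a • (w : V) = e v := congrArg Subtype.val ha
    have hc' : c • (w : V) = X w := congrArg Subtype.val hc
    rw [Module.End.mul_apply, LinearMap.smul_apply, ← ha', map_smul, ← hc', smul_comm]
  rw [h2, map_smul, rnk_trace he, h1]
  simp

theorem smul_ev_mulVec {n : ℕ} (g : S F (n + 1)) (hg : g.1 *ᵥ ev (n + 1) 0 = ev (n + 1) 0) (c : F) :
    g.1 *ᵥ (c • ev (n + 1) 0) = c • ev (n + 1) 0 := by rw [Matrix.mulVec_smul, hg]

theorem uRow_mulVec_ev {n : ℕ} (ψ : Fin n → F) : (uRow ψ).1 *ᵥ ev (n + 1) 0 = ev (n + 1) 0 := by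
  rw [uRow_mulVec, ev, tail_single_zero, dotProduct_zero, add_zero, ← tail_single_zero, Fin.cons_self_tail]

section autoNM

variable {n : ℕ} (ρ : Representation ℂ (S F (n + 2)) V)

theorem NM_of_invariant (c : F) (h1 : rnk (P ε ρ (c • ev (n + 1) 0)) = 1)
    (hstab : ∀ f : (Fin n → F) → ℂ,
      (∀ (g : S F (n + 2)) (σ : (Fin n → F) → (Fin n → F)),
        ρ g * P ε ρ (c • ev (n + 1) 0) = P ε ρ (c • ev (n + 1) 0) * ρ g →
        (∀ ψ, g * iota (uRow ψ) = iota (uRow (σ ψ)) * g) → ∀ ψ, f (σ ψ) = f ψ) →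
      (∀ a b, f (a + b) = f a * f b) → f 0 = 1 → ∀ ψ, f ψ = 1)
    (ψ : Fin n → F) : ρ (iota (uRow ψ)) * P ε ρ (c • ev (n + 1) 0) = P ε ρ (c • ev (n + 1) 0) := by
  set e := P ε ρ (c • ev (n + 1) 0) with he
  have hidem : e * e = e := P_idem ρ _
  have hcomm : ∀ ψ : Fin n → F, ρ (iota (uRow ψ)) * e = e * ρ (iota (uRow ψ)) := fun ψ =>
    iota_comm_P ρ (uRow ψ) (smul_ev_mulVec _ (uRow_mulVec_ev ψ) c)
  let f : (Fin n → F) → ℂ := fun ψ => LinearMap.trace ℂ V (ρ (iota (uRow ψ)) * e)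
  have hf : ∀ ψ, ρ (iota (uRow ψ)) * e = f ψ • e := fun ψ => eq_smul_of_rnk_one hidem h1 (hcomm ψ)
  have htr : LinearMap.trace ℂ V e = 1 := by rw [rnk_trace hidem, h1]; simp
  have hone : f 0 = 1 := by
    show LinearMap.trace ℂ V (ρ (iota (uRow 0)) * e) = 1
    rw [← zRow_apply, AddChar.map_zero_eq_one, map_one, map_one, one_mul, htr]
  suffices h : ∀ ψ, f ψ = 1 by rw [hf ψ, h ψ, one_smul]
  refine hstab f ?_ ?_ hone
  · intro g σ hg hσ ψ
    show LinearMap.trace ℂ V (ρ (iota (uRow (σ ψ))) * e) = LinearMap.trace ℂ V (ρ (iota (uRow ψ)) * e)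
    have h2 : ρ (iota (uRow (σ ψ))) = ρ g * ρ (iota (uRow ψ)) * ρ g⁻¹ := by
      rw [← map_mul, ← map_mul, hσ, mul_inv_cancel_right]
    have hg' : ρ g⁻¹ * e * ρ g = e := by
      rw [mul_assoc, ← hg, ← mul_assoc, ← map_mul, inv_mul_cancel, map_one, one_mul]
    rw [h2, mul_assoc, mul_assoc, LinearMap.trace_mul_comm, mul_assoc, hg']
  · intro a b
    show LinearMap.trace ℂ V (ρ (iota (uRow (a + b))) * e) = f a * f b
    rw [← zRow_apply, AddChar.map_add_eq_mul, map_mul iota, map_mul ρ, zRow_apply, zRow_apply, mul_assoc, hf b,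
      mul_smul_comm, hf a, smul_smul, map_smul, htr, smul_eq_mul, mul_one, mul_comm]

theorem iota_iota_mul_iota (h : S F n) (ψ : Fin n → F) :
    iota (iota h) * iota (uRow ψ) = iota (uRow (ψ ᵥ* (h⁻¹).1)) * iota (iota h) := by
  rw [← map_mul, iota_mul_uRow, map_mul]

/-- For `n ≥ 2` the condition `NM` follows from the weight spaces being lines. -/
theorem NM_of_two_le (hn : 2 ≤ n) (hm : ∀ a : Fin (n + 1) → F, a ≠ 0 → rnk (P ε ρ a) = 1) : NM ε ρ := by
  intro c hc ψ
  have hc0 : c • ev (n + 1) 0 ≠ (0 : Fin (n + 1) → F) := fun h => hc (by simpa using congrFun h 0)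
  refine NM_of_invariant ρ c (hm _ hc0) (fun f hf hadd hone ψ => ?_) ψ
  have hinv : ∀ a b : Fin n → F, a ≠ 0 → b ≠ 0 → f a = f b := by
    intro a b ha hb
    obtain ⟨g, hg⟩ := CfsgLib.MinDegree.exists_vecMul_eq (by simpa using hn) ha hb
    have h0 := hf (iota (iota g⁻¹)) (fun ψ => ψ ᵥ* g.1) (iota_comm_P ρ _ (by
      rw [iota_mulVec]
      funext i
      refine Fin.cases ?_ (fun j => ?_) i
      · simp
      · simp [Fin.succ_ne_zero, Fin.tail, tail_single_zero, Matrix.mulVec, dotProduct]))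
      (fun ψ => by rw [iota_iota_mul_iota, inv_inv]) a
    rw [hg] at h0
    exact h0.symm
  rcases eq_or_ne ψ 0 with rfl | hψ
  · exact hone
  obtain ⟨x, hx⟩ := CfsgLib.MinDegree.exists_not_smul (by simpa using hn) ψ
  have hx0 : x ≠ 0 := fun h => hx 0 (by simp [h])
  have hsum : ψ + x ≠ 0 := fun h => hx (-1) (by rw [neg_one_smul]; exact eq_neg_of_add_eq_zero_right h)
  have h1 := hadd ψ x
  rw [hinv _ ψ hsum hψ, hinv x ψ hx0 hψ] at h1
  have hne : f ψ ≠ 0 := by
    intro h0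
    have := hadd ψ (-ψ)
    rw [add_neg_cancel, hone, h0, zero_mul] at this
    exact one_ne_zero this
  exact (mul_eq_left₀ hne).mp h1.symm

end autoNM

theorem cons_two {k : ℕ} (a : F) (v : Fin (k + 2) → F) : (Fin.cons a v : Fin (k + 3) → F) 2 = v 1 := rfl

theorem cons_three {k : ℕ} (a : F) (v : Fin (k + 3) → F) : (Fin.cons a v : Fin (k + 4) → F) 3 = v 2 := rfl

theorem tail_two {k : ℕ} (v : Fin (k + 4) → F) : Fin.tail v 2 = v 3 := rfl

/-- A torus element of `SL 3` stabilising the weight. -/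
noncomputable def torusThree (a : Fˣ) : S F 3 :=
  ⟨Matrix.diagonal ![(a : F), (a : F), ((a : F) * a)⁻¹], by
    rw [Matrix.det_diagonal, Fin.prod_univ_three]
    simp
    field_simp⟩

/-- In dimension three `NM` holds as soon as a non-trivial cube exists. -/
theorem NM_three (ρ : Representation ℂ (S F 3) V) (hm : ∀ a : Fin 2 → F, a ≠ 0 → rnk (P ε ρ a) = 1)
    (hq : ∃ a : Fˣ, (a : F) ^ 3 ≠ 1) : NM (n := 1) ε ρ := by
  intro c hc ψ
  have hc0 : c • ev 2 0 ≠ (0 : Fin 2 → F) := fun h => hc (by simpa using congrFun h 0)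
  refine NM_of_invariant (n := 1) ρ c (hm _ hc0) (fun f hf hadd hone ψ => ?_) ψ
  obtain ⟨a, ha⟩ := hq
  have key : ∀ φ : Fin 2 → F, torusThree a * uRow φ = uRow ![φ 0, (a : F) ^ 3 * φ 1] * torusThree a := by
    intro φ
    refine ext_mulVec fun x => ?_
    rw [CfsgLib.MinDegree.mul_mulVec, CfsgLib.MinDegree.mul_mulVec, uRow_mulVec, uRow_mulVec]
    funext i
    fin_cases i <;>
      simp [torusThree, Matrix.mulVec_diagonal, dotProduct, Fin.sum_univ_two, cons_two, cons_three, Fin.tail]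
    all_goals (try field_simp)
    all_goals (try ring)
  have hcomm : ρ (torusThree a) * P ε ρ (c • ev 2 0) = P ε ρ (c • ev 2 0) * ρ (torusThree a) := by
    simp only [P, proj, mul_smul_comm, smul_mul_assoc, Finset.mul_sum, Finset.sum_mul, resChar_apply, zRow_apply]
    congr 1
    let σ : (Fin 2 → F) ≃ (Fin 2 → F) :=
      { toFun := fun φ => ![φ 0, (a : F) ^ 3 * φ 1]
        invFun := fun φ => ![φ 0, ((a : F) ^ 3)⁻¹ * φ 1]
        left_inv := fun φ => by funext i; fin_cases i <;> simp [a.ne_zero]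
        right_inv := fun φ => by funext i; fin_cases i <;> simp [a.ne_zero] }
    refine Fintype.sum_equiv σ _ _ fun φ => ?_
    rw [← map_mul, ← map_mul]
    congr 1
    · simp [σ, col_apply, dotProduct, Fin.sum_univ_two]
    · show ρ _ = ρ (uRow ![φ 0, (a : F) ^ 3 * φ 1] * torusThree a)
      rw [key]
  have hiota : ∀ ψ : Fin 1 → F,
      torusThree a * iota (uRow ψ) = iota (uRow ((a : F) ^ 3 • ψ)) * torusThree a := by
    intro ψ
    refine ext_mulVec fun x => ?_
    rw [CfsgLib.MinDegree.mul_mulVec, CfsgLib.MinDegree.mul_mulVec, iota_mulVec, iota_mulVec, uRow_mulVec,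
      uRow_mulVec]
    funext i
    fin_cases i <;> simp [torusThree, Matrix.mulVec_diagonal, dotProduct, cons_two, Fin.tail]
    all_goals (try field_simp)
    all_goals (try ring)
  have hfix : ∀ φ, f ((a : F) ^ 3 • φ) = f φ := hf _ _ hcomm hiota
  have h1 : (a : F) ^ 3 - 1 ≠ 0 := sub_ne_zero.mpr ha
  have h2 := hadd (((a : F) ^ 3 - 1)⁻¹ • ψ) ψ
  rw [show ((a : F) ^ 3 - 1)⁻¹ • ψ + ψ = (a : F) ^ 3 • ((a : F) ^ 3 - 1)⁻¹ • ψ by
    rw [smul_smul]
    nth_rewrite 2 [← one_smul F ψ]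
    rw [← add_smul]
    congr 1
    field_simp
    ring, hfix] at h2
  have hne : f (((a : F) ^ 3 - 1)⁻¹ • ψ) ≠ 0 := by
    intro h0
    have := hadd (((a : F) ^ 3 - 1)⁻¹ • ψ) (-(((a : F) ^ 3 - 1)⁻¹ • ψ))
    rw [add_neg_cancel, hone, h0, zero_mul] at this
    exact one_ne_zero this
  exact (mul_eq_left₀ hne).mp h2.symm

section autoGood

variable {n : ℕ} (ρ : Representation ℂ (S F (n + 2)) V)

theorem sum_rnk_Q_eq (hε : ε.IsPrimitive) (hm : ∀ a : Fin (n + 1) → F, a ≠ 0 → rnk (P ε ρ a) = 1)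
    {a : Fin n → F} (ha : a ≠ 0) : ∑ b : Fin n → F, rnk (R1 ε ρ a * R2 ε ρ b) = Fintype.card F := by
  rw [sum_rnk_Q ρ hε, rnk_R1 ρ hε]
  have : ∀ c : F, rnk (P ε ρ (Fin.cons c a)) = 1 := fun c => hm _ fun h => ha (funext fun i => by
    simpa using congrFun h i.succ)
  simp [this]

theorem card_support_le (hε : ε.IsPrimitive) (hm : ∀ a : Fin (n + 1) → F, a ≠ 0 → rnk (P ε ρ a) = 1)
    {a : Fin n → F} (ha : a ≠ 0) (B : Finset (Fin n → F))
    (hB : ∀ b ∈ B, R1 ε ρ a * R2 ε ρ b ≠ 0) : B.card ≤ Fintype.card F := by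
  rw [← sum_rnk_Q_eq ρ hε hm ha, Finset.card_eq_sum_ones]
  refine (Finset.sum_le_sum fun b hb => ?_).trans (Finset.sum_le_univ_sum_of_nonneg fun _ => Nat.zero_le _)
  exact rnk_pos (hB b hb)

theorem Q_ne_zero_of_conj (g : S F (n + 2)) {e f : End ℂ V} (he : e ≠ 0) (h : ρ g * e = f * ρ g) : f ≠ 0 := by
  rintro rfl
  rw [zero_mul] at h
  refine he ?_
  have := congrArg (ρ g⁻¹ * ·) h
  simpa [← mul_assoc, ← map_mul] using this

/-- For `n ≥ 3` no weight of rank two occurs. -/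
theorem Good_of_three_le (hε : ε.IsPrimitive) (hn : 3 ≤ n)
    (hm : ∀ a : Fin (n + 1) → F, a ≠ 0 → rnk (P ε ρ a) = 1) : Good ε ρ := by
  classical
  intro a b ha hab
  by_contra hne
  let B : Finset (Fin n → F) := Finset.univ.filter fun b' => ∀ c : F, b' ≠ c • a
  have hB : ∀ b' ∈ B, R1 ε ρ a * R2 ε ρ b' ≠ 0 := by
    intro b' hb'
    obtain ⟨g, hg1, hg2⟩ := CfsgLib.LinearPoints.exists_fix_indep hn ⟨a, ha⟩ hab (Finset.mem_filter.mp hb').2
    have h := iota_iota_mul_Q (ε := ε) ρ g a b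
    rw [hg1, hg2] at h
    exact Q_ne_zero_of_conj ρ _ hne h
  have h1 := card_support_le ρ hε hm ha B hB
  have h2 : (Finset.univ.filter fun b' : Fin n → F => ¬ ∀ c : F, b' ≠ c • a).card ≤ Fintype.card F := by
    refine le_trans (Finset.card_le_card (t := Finset.univ.image fun c : F => c • a) fun b' hb' => ?_)
      Finset.card_image_le
    simp only [Finset.mem_filter, Finset.mem_univ, true_and, not_forall, not_not] at hb'
    obtain ⟨c, hc⟩ := hb'
    exact Finset.mem_image.mpr ⟨c, Finset.mem_univ _, hc.symm⟩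
  have h3 := Finset.card_filter_add_card_filter_not (s := (Finset.univ : Finset (Fin n → F)))
    (fun b' => ∀ c : F, b' ≠ c • a)
  rw [Finset.card_univ, Fintype.card_fun, Fintype.card_fin] at h3
  have hq : 2 ≤ Fintype.card F := Fintype.one_lt_card
  have h4 : Fintype.card F ^ 3 ≤ Fintype.card F ^ n := Nat.pow_le_pow_right (by omega) hn
  change B.card + _ = _ at h3
  nlinarith [Nat.mul_le_mul (Nat.mul_le_mul hq hq) (le_refl (Fintype.card F))]

/-- A torus element scaling determinants by a square. -/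
noncomputable def diagThree (t : Fˣ) : S F 3 :=
  ⟨Matrix.diagonal ![(t : F), 1, (t : F)⁻¹], by
    rw [Matrix.det_diagonal, Fin.prod_univ_three]
    simp [t.ne_zero]⟩

theorem diagThree_coe (t : Fˣ) : (diagThree t).1 = Matrix.diagonal ![(t : F), 1, (t : F)⁻¹] := rfl

/-- The same element inside `SL 4`. -/
noncomputable def torusFour (t : Fˣ) : S F 4 := iota (diagThree t)

/-- For `n = 2` no weight of rank two occurs once a square different from one exists. -/
theorem Good_two (ρ : Representation ℂ (S F 4) V) (hε : ε.IsPrimitive)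
    (hq : ∃ t : Fˣ, (t : F) ^ 2 ≠ 1) (hm : ∀ a : Fin 3 → F, a ≠ 0 → rnk (P ε ρ a) = 1) : Good (n := 2) ε ρ := by
  classical
  intro a b ha hab
  by_contra hne
  obtain ⟨g, hg⟩ := CfsgLib.MinDegree.exists_mulVec_eq (ι := Fin 2) (by simp) ha
    (show ev 2 0 ≠ (0 : Fin 2 → F) from fun h => one_ne_zero (α := F) (by simpa using congrFun h 0))
  have hg' := iota_iota_mul_Q (ε := ε) (n := 2) ρ g a b
  rw [hg] at hg'
  have hne0 := Q_ne_zero_of_conj (n := 2) ρ _ hne hg'
  set d := (g.1 *ᵥ b) 1 with hd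
  have hd0 : d ≠ 0 := by
    intro h0
    refine hab ((g.1 *ᵥ b) 0) ?_
    have h1 : g.1 *ᵥ b = g.1 *ᵥ ((g.1 *ᵥ b) 0 • a) := by
      rw [Matrix.mulVec_smul, hg]
      funext i
      fin_cases i
      · simp
      · simpa [hd] using h0
    have h2 : (g⁻¹).1 *ᵥ (g.1 *ᵥ b) = (g⁻¹).1 *ᵥ (g.1 *ᵥ ((g.1 *ᵥ b) 0 • a)) := congrArg ((g⁻¹).1 *ᵥ ·) h1
    rwa [← CfsgLib.MinDegree.mul_mulVec, ← CfsgLib.MinDegree.mul_mulVec, inv_mul_cancel,
      CfsgLib.MinDegree.sl_one_mulVec, CfsgLib.MinDegree.sl_one_mulVec] at h2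
  have hshift : ∀ b' : Fin 2 → F, R1 ε (n := 2) ρ (ev 2 0) * R2 ε (n := 2) ρ b' ≠ 0 → ∀ x : F,
      R1 ε (n := 2) ρ (ev 2 0) * R2 ε (n := 2) ρ ![x, b' 1] ≠ 0 := by
    intro b' hb' x
    have h := rowOp_mul_Q (ε := ε) (n := 2) ρ (b' 0 - x) (ev 2 0) b'
    rw [show b' - (b' 0 - x) • ev 2 0 = ![x, b' 1] by funext i; fin_cases i <;> simp] at h
    exact Q_ne_zero_of_conj (n := 2) ρ _ hb' h
  obtain ⟨t, ht⟩ := hq
  have hscale : R1 ε (n := 2) ρ (ev 2 0) * R2 ε (n := 2) ρ ![(g.1 *ᵥ b) 0 / t, d / (t : F) ^ 2] ≠ 0 := by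
    refine Q_ne_zero_of_conj (n := 2) ρ (torusFour t) hne0 ?_
    have k1 : ∀ φ : Fin 2 → F, torusFour t * uRow (Fin.cons 0 φ) =
        uRow (Fin.cons 0 ![φ 0, (t : F) * φ 1]) * torusFour t := by
      intro φ
      refine ext_mulVec fun x => ?_
      rw [torusFour, CfsgLib.MinDegree.mul_mulVec, CfsgLib.MinDegree.mul_mulVec, uRow_mulVec, iota_mulVec,
        iota_mulVec, uRow_mulVec, diagThree_coe]
      funext i
      fin_cases i <;>
        simp [Matrix.mulVec_diagonal, dotProduct, Fin.sum_univ_two, Fin.sum_univ_three, cons_two, cons_three, Fin.tail]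
      all_goals (try field_simp)
      all_goals (try ring)
    have k2 : ∀ ψ : Fin 2 → F, torusFour t * iota (uRow ψ) =
        iota (uRow ![(t : F) * ψ 0, (t : F) ^ 2 * ψ 1]) * torusFour t := by
      intro ψ
      refine ext_mulVec fun x => ?_
      simp only [torusFour, CfsgLib.MinDegree.mul_mulVec, iota_mulVec, uRow_mulVec, diagThree_coe]
      funext i
      fin_cases i <;>
        simp [Matrix.mulVec_diagonal, dotProduct, Fin.sum_univ_two, cons_two, cons_three, Fin.tail]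
      all_goals (try field_simp)
      all_goals (try ring)
    have e1 : ρ (torusFour t) * R1 ε (n := 2) ρ (ev 2 0) = R1 ε (n := 2) ρ (ev 2 0) * ρ (torusFour t) := by
      simp only [R1, proj, mul_smul_comm, smul_mul_assoc, Finset.mul_sum, Finset.sum_mul,
        AddChar.compAddMonoidHom_apply, resChar_apply, zRow_apply]
      congr 1
      let σ : (Fin 2 → F) ≃ (Fin 2 → F) :=
        { toFun := fun φ => ![φ 0, (t : F) * φ 1]
          invFun := fun φ => ![φ 0, (t : F)⁻¹ * φ 1]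
          left_inv := fun φ => by funext i; fin_cases i <;> simp [t.ne_zero]
          right_inv := fun φ => by funext i; fin_cases i <;> simp [t.ne_zero] }
      refine Fintype.sum_equiv σ _ _ fun φ => ?_
      rw [← map_mul, ← map_mul]
      congr 1
      · simp [σ, col_apply, dotProduct, Fin.sum_univ_two]
      · show ρ (torusFour t * uRow (Fin.cons 0 φ)) = ρ (uRow (Fin.cons 0 ![φ 0, (t : F) * φ 1]) * torusFour t)
        rw [k1]
    have e2 : ρ (torusFour t) * R2 ε (n := 2) ρ (g.1 *ᵥ b) =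
        R2 ε (n := 2) ρ ![(g.1 *ᵥ b) 0 / t, d / (t : F) ^ 2] * ρ (torusFour t) := by
      simp only [R2, P, proj, mul_smul_comm, smul_mul_assoc, Finset.mul_sum, Finset.sum_mul, resChar_apply,
        MonoidHom.comp_apply, zRow_apply]
      congr 1
      let σ : (Fin 2 → F) ≃ (Fin 2 → F) :=
        { toFun := fun ψ => ![(t : F) * ψ 0, (t : F) ^ 2 * ψ 1]
          invFun := fun ψ => ![(t : F)⁻¹ * ψ 0, ((t : F) ^ 2)⁻¹ * ψ 1]
          left_inv := fun φ => by funext i; fin_cases i <;> simp [t.ne_zero]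
          right_inv := fun φ => by funext i; fin_cases i <;> simp [t.ne_zero] }
      refine Fintype.sum_equiv σ _ _ fun φ => ?_
      rw [← map_mul, ← map_mul]
      congr 1
      · simp only [col_apply, dotProduct, Fin.sum_univ_two, σ, Equiv.coe_fn_mk, Pi.neg_apply, hd,
          Matrix.cons_val_zero, Matrix.cons_val_one]
        congr 1
        field_simp
      · show ρ (torusFour t * iota (uRow φ)) = _
        rw [k2]
        rfl
    rw [← mul_assoc, e1, mul_assoc, e2, ← mul_assoc]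
  let d' := d / (t : F) ^ 2
  let B : Finset (Fin 2 → F) := (Finset.univ ×ˢ ({d, d'} : Finset F)).image fun z => ![z.1, z.2]
  have hB : ∀ b' ∈ B, R1 ε (n := 2) ρ (ev 2 0) * R2 ε (n := 2) ρ b' ≠ 0 := by
    intro b' hb'
    obtain ⟨⟨x, y⟩, hxy, rfl⟩ := Finset.mem_image.mp hb'
    simp only [Finset.mem_product, Finset.mem_univ, true_and, Finset.mem_insert, Finset.mem_singleton] at hxy
    rcases hxy with rfl | rfl
    · simpa [hd] using hshift _ hne0 x
    · simpa [d'] using hshift _ hscale x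
  have h1 := card_support_le (n := 2) ρ hε hm
    (show ev 2 0 ≠ (0 : Fin 2 → F) from fun h => one_ne_zero (α := F) (by simpa using congrFun h 0)) B hB
  have hdd : d ≠ d' := by
    intro h
    apply ht
    simp only [d'] at h
    field_simp at h
    exact h
  have hcard : B.card = 2 * Fintype.card F := by
    rw [Finset.card_image_of_injective, Finset.card_product, Finset.card_univ, Finset.card_pair hdd, mul_comm]
    rintro ⟨x, y⟩ ⟨x', y'⟩ h
    have h0 := congrFun h 0
    have h1 := congrFun h 1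
    simp_all
  have : 1 ≤ Fintype.card F := Fintype.card_pos
  omega

end autoGood

end CfsgLib.RepBounds.SLR
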