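import Cfsg.Agent.RepBounds.SL.Hyp

/-!
# The fixed space of the first row, moved over the points of projective space
-/

set_option autoImplicit false
set_option linter.unusedSectionVars false

namespace CfsgLib.RepBounds.SLR

open Matrix Module CfsgLib.RepBounds
open scoped LinearAlgebra.Projectivization

variable {F : Type*} [Field F] [Fintype F] [DecidableEq F] {V : Type*} [AddCommGroup V] [Module ℂ V]
  [FiniteDimensional ℂ V] {ε : AddChar F ℂ}

theorem mk_smul_eq {n : ℕ} (g : S F n) {v : Fin n → F} (hv : v ≠ 0) :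
    ∃ hv' : g.1 *ᵥ v ≠ 0, g • Projectivization.mk F v hv = Projectivization.mk F (g.1 *ᵥ v) hv' := by
  have h : g.toLin'_equiv • v ≠ 0 := (smul_ne_zero_iff_ne g.toLin'_equiv).mpr hv
  exact ⟨h, (Projectivization.matrixSpecialLinearGroup_smul_def g _).trans (Projectivization.smul_mk _ hv)⟩

/-- The base point. -/
noncomputable def pt (F : Type*) [Field F] (n : ℕ) : ℙ F (Fin (n + 1) → F) :=
  Projectivization.mk F (ev (n + 1) 0) (by simp)

theorem fix_of_smul_pt {n : ℕ} (g : S F (n + 1)) (h : g • pt F n = pt F n) :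
    ∃ c : F, g.1 *ᵥ ev (n + 1) 0 = c • ev (n + 1) 0 := by
  obtain ⟨hv', he⟩ := mk_smul_eq g (v := ev (n + 1) 0) (by simp)
  rw [pt, he, Projectivization.mk_eq_mk_iff'] at h
  obtain ⟨c, hc⟩ := h
  exact ⟨c, hc.symm⟩

theorem card_points {n : ℕ} :
    Nat.card (ℙ F (Fin n → F)) = ∑ i ∈ Finset.range n, Fintype.card F ^ i := by
  rw [Projectivization.card_of_finrank F (Fin n → F) (Module.finrank_fin_fun F), Nat.card_eq_fintype_card]

/-- The degree divides the number of points times `d²` up to a power of `q`. -/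
theorem finrank_dvd {n : ℕ} (ρ : Representation ℂ (S F (n + 2)) V) [ρ.IsIrreducible] :
    finrank ℂ V ∣ (∑ i ∈ Finset.range (n + 2), Fintype.card F ^ i) * rnk (P ε ρ 0) ^ 2 *
      (Fintype.card F ^ (n + 1)) ^ 2 := by
  classical
  have : Finite (ℙ F (Fin (n + 2) → F)) := Quotient.finite _
  let _ : Fintype (ℙ F (Fin (n + 2) → F)) := Fintype.ofFinite _
  set e := P ε ρ 0 with he
  let G := S F (n + 2)
  let f : G → ℂ := fun g => LinearMap.trace ℂ V (e * (ρ g * e * ρ g⁻¹))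
  have htr : ∀ x : ℙ F (Fin (n + 2) → F), ∃ g : G, g • pt F (n + 1) = x := fun x =>
    MulAction.exists_smul_eq (Matrix.SpecialLinearGroup (Fin (n + 2)) F) (pt F (n + 1)) x
  choose gx hgx using htr
  have hconst : ∀ g : G, f g = f (gx (g • pt F (n + 1))) := by
    intro g
    set g' := gx (g • pt F (n + 1))
    obtain ⟨c, hc⟩ := fix_of_smul_pt (g'⁻¹ * g) (by rw [mul_smul, inv_smul_eq_iff]; exact (hgx _).symm)
    have h1 := fix_comm_P_zero (ε := ε) ρ (g'⁻¹ * g) c hc
    have h2 : ρ g * e * ρ g⁻¹ = ρ g' * e * ρ g'⁻¹ := by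
      set h := g'⁻¹ * g with hh
      have h3 : g = g' * h := (mul_inv_cancel_left g' g).symm
      rw [h3, map_mul ρ g' h, _root_.mul_inv_rev, map_mul ρ h⁻¹ g'⁻¹, mul_assoc (ρ g') (ρ h) e, he, h1,
        ← mul_assoc (ρ g'), mul_assoc (ρ g' * P ε ρ 0), ← mul_assoc (ρ h), ← map_mul, mul_inv_cancel, map_one, one_mul]
    show LinearMap.trace ℂ V (e * (ρ g * e * ρ g⁻¹)) = LinearMap.trace ℂ V (e * (ρ g' * e * ρ g'⁻¹))
    rw [h2]
  obtain ⟨M, hM⟩ : ∃ M, ∀ x, Nat.card {g : G // g • pt F (n + 1) = x} = M := by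
    refine ⟨Nat.card {g : G // g • pt F (n + 1) = pt F (n + 1)}, fun x => ?_⟩
    refine Nat.card_congr ((Equiv.mulLeft (gx x)⁻¹).subtypeEquiv fun g => ?_)
    rw [Equiv.coe_mulLeft, mul_smul, inv_smul_eq_iff, hgx x]
  have hsum : ∑ g : G, f g = M * ∑ x, f (gx x) := by
    rw [Finset.mul_sum, ← Finset.sum_fiberwise Finset.univ (fun g : G => g • pt F (n + 1)) f]
    refine Finset.sum_congr rfl fun x _ => ?_
    rw [Finset.sum_congr rfl (g := fun _ => f (gx x)) (fun g hg => by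
      rw [hconst g, (Finset.mem_filter.mp hg).2]), Finset.sum_const, nsmul_eq_mul, ← hM x,
      Nat.card_eq_fintype_card, Fintype.card_subtype]
  have hcardG : Fintype.card G = Nat.card (ℙ F (Fin (n + 2) → F)) * M := by
    rw [← Nat.card_eq_fintype_card, ← Nat.card_congr (Equiv.sigmaFiberEquiv fun g : G => g • pt F (n + 1)),
      Nat.card_sigma, Finset.sum_congr rfl (fun x _ => hM x), Finset.sum_const, Finset.card_univ, smul_eq_mul,
      Nat.card_eq_fintype_card]
  have hM0 : (M : ℂ) ≠ 0 := by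
    rw [Nat.cast_ne_zero]
    intro h0
    rw [h0, mul_zero] at hcardG
    exact Fintype.card_ne_zero hcardG
  have key := sum_trace_conj ρ (P_idem (ε := ε) ρ 0)
  rw [← he] at key
  change (∑ g : G, f g) * _ = _ at key
  rw [hsum, hcardG, Nat.cast_mul, mul_comm (Nat.card (ℙ F (Fin (n + 2) → F)) : ℂ), mul_assoc, mul_assoc] at key
  have key' := mul_left_cancel₀ hM0 key
  have : Nontrivial V := CfsgLib.Characters.nontrivial_of_isIrreducible ρ
  have hk : finrank ℂ V ≠ 0 := Module.finrank_pos.ne'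
  refine CfsgLib.Characters.dvd_of_isIntegral_div hk ?_
  rw [← card_points]
  have h2 : (((Nat.card (ℙ F (Fin (n + 2) → F)) * rnk e ^ 2 * (Fintype.card F ^ (n + 1)) ^ 2 : ℕ) : ℂ)) /
      (finrank ℂ V : ℂ) = ∑ x, (Fintype.card (Fin (n + 1) → F) : ℂ) ^ 2 * f (gx x) := by
    rw [← Finset.mul_sum, div_eq_iff (Nat.cast_ne_zero.mpr hk), mul_assoc ((Fintype.card (Fin (n + 1) → F) : ℂ) ^ 2), key', Fintype.card_fun, Fintype.card_fin]
    push_cast
    ring
  rw [h2]
  refine IsIntegral.sum _ fun x _ => ?_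
  have := isIntegral_trace_avg ρ (zRow F (n + 1)) (gx x)
  simp only [f, he, P, col_zero]
  exact this

/-- If the fixed space of the first two rows in dimension three is zero, the translates of the fixed space of the
first row are independent. -/
theorem points_mul_le (ρ : Representation ℂ (S F 3) V) (h : P ε ρ 0 * R2 ε (n := 1) ρ 0 = 0) :
    (∑ i ∈ Finset.range 3, Fintype.card F ^ i) * rnk (P ε ρ 0) ≤ finrank ℂ V := by
  classical
  have : Finite (ℙ F (Fin 3 → F)) := Quotient.finite _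
  let _ : Fintype (ℙ F (Fin 3 → F)) := Fintype.ofFinite _
  set e := P ε ρ 0 with he
  have hswap : e * ρ (swapEl 1) * e = 0 := by
    have h1 : ∀ ψ : Fin 1 → F, e * ρ (swapEl 1) * ρ (iota (uRow ψ)) = e * ρ (swapEl 1) := by
      intro ψ
      rw [mul_assoc, ← map_mul, swapEl_mul_iota, map_mul, ← mul_assoc,
        ← fix_comm_P_zero (ε := ε) ρ (uRow (Fin.cons 0 (-ψ))) 1 (by rw [uRow_mulVec_ev, one_smul]),
        uRow_mul_P_zero]
    have h2 : e * ρ (swapEl 1) * R2 ε (n := 1) ρ 0 = e * ρ (swapEl 1) := by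
      simp only [R2, P, col_zero, proj, mul_smul_comm, Finset.mul_sum, AddChar.zero_apply, one_smul, resChar_apply,
        MonoidHom.comp_apply, zRow_apply, h1, Finset.sum_const, Finset.card_univ]
      rw [← Nat.cast_smul_eq_nsmul ℂ, smul_smul, inv_mul_cancel₀ (Nat.cast_ne_zero.mpr Fintype.card_ne_zero), one_smul]
    have h3 : e * R2 ε (n := 1) ρ 0 = R2 ε (n := 1) ρ 0 * e :=
      R2_comm (n := 1) ρ e (fun ψ => (iota_comm_P (ε := ε) ρ (uRow ψ) (Matrix.mulVec_zero _)).symm) 0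
    rw [← h2, mul_assoc, ← h3, h, mul_zero]
  have hne : ∀ g : S F 3, g • pt F 2 ≠ pt F 2 → e * ρ g * e = 0 := by
    intro g hg
    obtain ⟨p, hp1, hp2⟩ := CfsgLib.LinearPoints.exists_fix_indep (n := 3) le_rfl
      (⟨ev 3 0, by simp⟩ : CfsgLib.LinearPoints.NZ F 3) (x := (swapEl 1).1 *ᵥ ev 3 0)
      (w := g.1 *ᵥ ev 3 0) (fun c hc => by
        have := congrFun hc 1
        rw [swapEl_mulVec] at this
        simp at this) (fun c hc => hg (by
        obtain ⟨hv', he'⟩ := mk_smul_eq g (v := ev 3 0) (by simp)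
        rw [pt, he', Projectivization.mk_eq_mk_iff']
        exact ⟨c, hc.symm⟩))
    have hp' : ((swapEl 1)⁻¹ * p⁻¹ * g).1 *ᵥ ev 3 0 = (1 : F) • ev 3 0 := by
      rw [CfsgLib.MinDegree.mul_mulVec, CfsgLib.MinDegree.mul_mulVec, ← hp2, ← CfsgLib.MinDegree.mul_mulVec p⁻¹,
        inv_mul_cancel, CfsgLib.MinDegree.sl_one_mulVec, ← CfsgLib.MinDegree.mul_mulVec, inv_mul_cancel,
        CfsgLib.MinDegree.sl_one_mulVec, one_smul]
    have hgdec : g = p * swapEl 1 * ((swapEl 1)⁻¹ * p⁻¹ * g) := by group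
    rw [hgdec, map_mul, map_mul, ← mul_assoc, ← mul_assoc,
      ← fix_comm_P_zero (ε := ε) ρ p 1 (by rw [hp1, one_smul]), mul_assoc (ρ p * e * ρ (swapEl 1)),
      fix_comm_P_zero (ε := ε) ρ _ 1 hp', ← mul_assoc, mul_assoc (ρ p) e, mul_assoc (ρ p), hswap, mul_zero, zero_mul]
  have htr : ∀ x : ℙ F (Fin 3 → F), ∃ g : S F 3, g • pt F 2 = x := fun x =>
    MulAction.exists_smul_eq (Matrix.SpecialLinearGroup (Fin 3) F) (pt F 2) x
  choose gx hgx using htr
  let Ex : ℙ F (Fin 3 → F) → End ℂ V := fun x => ρ (gx x) * e * ρ (gx x)⁻¹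
  have h1 : rnk (1 : End ℂ V) = finrank ℂ V := by
    rw [rnk, Module.End.one_eq_id, LinearMap.range_id, finrank_top]
  have hE : ∀ x, Ex x * Ex x = Ex x := fun x => by
    show ρ (gx x) * e * ρ (gx x)⁻¹ * (ρ (gx x) * e * ρ (gx x)⁻¹) = _
    rw [← mul_assoc, ← mul_assoc, mul_assoc (ρ (gx x) * e) (ρ (gx x)⁻¹), ← map_mul, inv_mul_cancel, map_one,
      mul_one, mul_assoc (ρ (gx x)) e e, P_idem]
  have hle := sum_rnk_le Finset.univ Ex 1 (fun x _ => hE x) (fun x _ y _ hxy => by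
    show ρ (gx x) * e * ρ (gx x)⁻¹ * (ρ (gx y) * e * ρ (gx y)⁻¹) = 0
    rw [← mul_assoc, ← mul_assoc, mul_assoc (ρ (gx x) * e) (ρ (gx x)⁻¹), ← map_mul,
      mul_assoc (ρ (gx x)) e, mul_assoc (ρ (gx x)), hne _ (fun h0 => hxy (by
        rw [mul_smul, inv_smul_eq_iff, hgx, hgx] at h0
        exact h0.symm)), mul_zero, zero_mul]) (fun x _ => one_mul _)
  have hr : ∀ x, rnk (Ex x) = rnk e := fun x =>
    rnk_conj _ _ (by rw [← map_mul, inv_mul_cancel, map_one]) (P_idem ρ 0)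
  rw [Finset.sum_congr rfl (fun x _ => hr x), Finset.sum_const, Finset.card_univ, smul_eq_mul,
    ← Nat.card_eq_fintype_card, card_points, h1] at hle
  exact hle

end CfsgLib.RepBounds.SLR
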