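import Cfsg.Agent.MinDegree.Transvection
import Cfsg.Agent.LinearPoints.Basic

/-!
# Row subgroups and Levi embedding in `SL`

`uRow φ` is the root subgroup of the first row, `iota h` the embedding `diag (1, h)`.
-/

set_option autoImplicit false
set_option linter.unusedSectionVars false

namespace CfsgLib.RepBounds.SLR

open Matrix

variable {F : Type*} [Field F]

/-- The special linear group on `Fin n`. -/
abbrev S (F : Type*) [Field F] (n : ℕ) : Type _ := Matrix.SpecialLinearGroup (Fin n) F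

/-- The unit row vector. -/
abbrev ev (n : ℕ) (i : Fin n) : Fin n → F := Pi.single i 1

theorem tail_single_zero {n : ℕ} : Fin.tail (Pi.single (0 : Fin (n + 1)) (1 : F) : Fin (n + 1) → F) = 0 := by
  funext i
  simp [Fin.tail, Fin.succ_ne_zero]

/-- A first-row element. -/
noncomputable def uRow {n : ℕ} (φ : Fin n → F) : S F (n + 1) :=
  CfsgLib.MinDegree.tv (Pi.single 0 1) (Fin.cons 0 φ)

theorem uRow_perp {n : ℕ} (φ : Fin n → F) : (Fin.cons 0 φ : Fin (n + 1) → F) ⬝ᵥ Pi.single 0 1 = 0 := by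
  simp

theorem uRow_mulVec {n : ℕ} (φ : Fin n → F) (x : Fin (n + 1) → F) :
    (uRow φ).1 *ᵥ x = Fin.cons (x 0 + φ ⬝ᵥ Fin.tail x) (Fin.tail x) := by
  rw [uRow, CfsgLib.MinDegree.tv_mulVec (uRow_perp φ)]
  funext i
  refine Fin.cases ?_ (fun j => ?_) i
  · simp [dotProduct, Fin.sum_univ_succ, Fin.tail]
  · simp [Fin.succ_ne_zero, Fin.tail]

theorem ext_mulVec {n : ℕ} {A B : S F n} (h : ∀ x, A.1 *ᵥ x = B.1 *ᵥ x) : A = B :=
  CfsgLib.MinDegree.sl_ext h

/-- The first-row subgroup. -/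
noncomputable def zRow (F : Type*) [Field F] (n : ℕ) : AddChar (Fin n → F) (S F (n + 1)) where
  toFun := uRow
  map_zero_eq_one' := ext_mulVec fun x => by
    rw [uRow_mulVec, CfsgLib.MinDegree.sl_one_mulVec, zero_dotProduct, add_zero, Fin.cons_self_tail]
  map_add_eq_mul' φ ψ := ext_mulVec fun x => by
    rw [CfsgLib.MinDegree.mul_mulVec, uRow_mulVec, uRow_mulVec, uRow_mulVec, Fin.cons_zero, Fin.tail_cons,
      add_dotProduct]
    congr 1
    ring

theorem zRow_apply {n : ℕ} (φ : Fin n → F) : zRow F n φ = uRow φ := rfl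

/-- The matrix `diag (1, h)`. -/
def iotaMat {n : ℕ} (h : Matrix (Fin n) (Fin n) F) : Matrix (Fin (n + 1)) (Fin (n + 1)) F :=
  Matrix.of (Fin.cases (Pi.single 0 1) fun i => Fin.cons 0 (h i))

theorem iotaMat_mulVec {n : ℕ} (h : Matrix (Fin n) (Fin n) F) (x : Fin (n + 1) → F) :
    iotaMat h *ᵥ x = Fin.cons (x 0) (h *ᵥ Fin.tail x) := by
  funext i
  refine Fin.cases ?_ (fun j => ?_) i
  · simp [iotaMat, Matrix.mulVec, dotProduct, Pi.single_apply]
  · simp [iotaMat, Matrix.mulVec, dotProduct, Fin.sum_univ_succ, Fin.tail]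

theorem det_iotaMat {n : ℕ} (h : Matrix (Fin n) (Fin n) F) : (iotaMat h).det = h.det := by
  rw [Matrix.det_succ_row_zero, Fintype.sum_eq_single (0 : Fin (n + 1))]
  · simp [iotaMat, Matrix.submatrix]
    rfl
  · intro j hj
    simp [iotaMat, hj]

/-- The embedding `h ↦ diag (1, h)`. -/
noncomputable def iota {n : ℕ} : S F n →* S F (n + 1) where
  toFun h := ⟨iotaMat h.1, by rw [det_iotaMat, h.2]⟩
  map_one' := ext_mulVec fun x => by
    show iotaMat (1 : Matrix (Fin n) (Fin n) F) *ᵥ x = _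
    rw [iotaMat_mulVec, CfsgLib.MinDegree.sl_one_mulVec, Matrix.one_mulVec, Fin.cons_self_tail]
  map_mul' g h := ext_mulVec fun x => by
    show iotaMat (g.1 * h.1) *ᵥ x = _
    refine Eq.trans ?_ (Matrix.mulVec_mulVec x (iotaMat g.1) (iotaMat h.1))
    rw [iotaMat_mulVec, iotaMat_mulVec, iotaMat_mulVec, Fin.cons_zero, Fin.tail_cons, Matrix.mulVec_mulVec]

theorem iota_mulVec {n : ℕ} (h : S F n) (x : Fin (n + 1) → F) :
    (iota h).1 *ᵥ x = Fin.cons (x 0) (h.1 *ᵥ Fin.tail x) := iotaMat_mulVec _ _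

theorem iota_mul_uRow {n : ℕ} (h : S F n) (φ : Fin n → F) :
    iota h * uRow φ = uRow (φ ᵥ* (h⁻¹).1) * iota h := ext_mulVec fun x => by
  rw [CfsgLib.MinDegree.mul_mulVec, CfsgLib.MinDegree.mul_mulVec, uRow_mulVec, iota_mulVec, iota_mulVec, uRow_mulVec,
    Fin.cons_zero, Fin.tail_cons, Fin.cons_zero, Fin.tail_cons, ← Matrix.dotProduct_mulVec,
    ← CfsgLib.MinDegree.mul_mulVec, inv_mul_cancel, CfsgLib.MinDegree.sl_one_mulVec]

/-- The conjugation action on the first row. -/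
noncomputable def rowEquiv {n : ℕ} (h : S F n) : (Fin n → F) ≃+ (Fin n → F) where
  toFun φ := φ ᵥ* (h⁻¹).1
  invFun φ := φ ᵥ* h.1
  left_inv φ := by
    show φ ᵥ* (h⁻¹).1 ᵥ* h.1 = φ
    rw [Matrix.vecMul_vecMul, ← Matrix.SpecialLinearGroup.coe_mul, inv_mul_cancel,
      Matrix.SpecialLinearGroup.coe_one, Matrix.vecMul_one]
  right_inv φ := by
    show φ ᵥ* h.1 ᵥ* (h⁻¹).1 = φ
    rw [Matrix.vecMul_vecMul, ← Matrix.SpecialLinearGroup.coe_mul, mul_inv_cancel,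
      Matrix.SpecialLinearGroup.coe_one, Matrix.vecMul_one]
  map_add' φ ψ := Matrix.add_vecMul _ _ _

theorem uRow_cons_comm {n : ℕ} (φ ψ : Fin n → F) :
    Commute (uRow (Fin.cons 0 φ)) (iota (uRow ψ)) := ext_mulVec fun x => by
  rw [CfsgLib.MinDegree.mul_mulVec, CfsgLib.MinDegree.mul_mulVec, uRow_mulVec, iota_mulVec, iota_mulVec, uRow_mulVec,
    uRow_mulVec, uRow_mulVec, Fin.cons_zero, Fin.tail_cons]
  simp [dotProduct, Fin.sum_univ_succ, Fin.tail]

/-- The element sending `e₀ ↦ e₁`, `e₁ ↦ -e₀`. -/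
noncomputable def swapEl (n : ℕ) : S F (n + 2) :=
  CfsgLib.MinDegree.tv (ev (n + 2) 1) (ev (n + 2) 0) * CfsgLib.MinDegree.tv (ev (n + 2) 0) (-ev (n + 2) 1) *
    CfsgLib.MinDegree.tv (ev (n + 2) 1) (ev (n + 2) 0)

theorem swapEl_mulVec {n : ℕ} (x : Fin (n + 2) → F) :
    (swapEl n).1 *ᵥ x = Fin.cons (-x 1) (Fin.cons (x 0) (Fin.tail (Fin.tail x))) := by
  have h01 : ev (n + 2) 0 ⬝ᵥ (ev (n + 2) 1 : Fin (n + 2) → F) = 0 := by simp
  have h10 : (-ev (n + 2) 1 : Fin (n + 2) → F) ⬝ᵥ ev (n + 2) 0 = 0 := by simp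
  rw [swapEl, CfsgLib.MinDegree.mul_mulVec, CfsgLib.MinDegree.mul_mulVec, CfsgLib.MinDegree.tv_mulVec h01,
    CfsgLib.MinDegree.tv_mulVec h10, CfsgLib.MinDegree.tv_mulVec h01]
  funext i
  refine Fin.cases ?_ (fun j => Fin.cases ?_ (fun l => ?_) j) i
  · simp
  · simp
  · simp [Fin.tail, Pi.single_apply, Fin.ext_iff]

theorem swapEl_mul_uRow {n : ℕ} (φ : Fin n → F) :
    swapEl n * uRow (Fin.cons 0 φ) = iota (uRow φ) * swapEl n := ext_mulVec fun x => by
  rw [CfsgLib.MinDegree.mul_mulVec, CfsgLib.MinDegree.mul_mulVec, uRow_mulVec, swapEl_mulVec, swapEl_mulVec,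
    iota_mulVec, uRow_mulVec]
  funext i
  refine Fin.cases ?_ (fun j => Fin.cases ?_ (fun l => ?_) j) i
  · simp [Fin.tail]
  · simp [Fin.tail, dotProduct, Fin.sum_univ_succ]
  · simp [Fin.tail]

theorem swapEl_mul_iota {n : ℕ} (ψ : Fin n → F) :
    swapEl n * iota (uRow ψ) = uRow (Fin.cons 0 (-ψ)) * swapEl n := ext_mulVec fun x => by
  rw [CfsgLib.MinDegree.mul_mulVec, CfsgLib.MinDegree.mul_mulVec, iota_mulVec, uRow_mulVec, swapEl_mulVec,
    swapEl_mulVec, uRow_mulVec]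
  funext i
  refine Fin.cases ?_ (fun j => Fin.cases ?_ (fun l => ?_) j) i
  · simp [Fin.tail, dotProduct, Fin.sum_univ_succ]
    abel
  · simp [Fin.tail]
  · simp [Fin.tail]

/-- The element `e₁ ↦ e₁ + t e₀`. -/
noncomputable def rowOp (n : ℕ) (t : F) : S F (n + 2) := uRow (Fin.cons t 0)

theorem rowOp_comm {n : ℕ} (t : F) (φ : Fin n → F) : Commute (rowOp n t) (uRow (Fin.cons 0 φ)) := by
  show uRow _ * uRow _ = uRow _ * uRow _
  rw [← zRow_apply, ← zRow_apply]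
  exact (AddChar.map_add_eq_mul _ _ _).symm.trans ((congrArg (zRow F (n + 1)) (add_comm _ _)).trans (AddChar.map_add_eq_mul _ _ _))

theorem rowOp_mul_iota {n : ℕ} (t : F) (ψ : Fin n → F) :
    rowOp n t * iota (uRow ψ) = uRow (Fin.cons 0 (t • ψ)) * iota (uRow ψ) * rowOp n t := ext_mulVec fun x => by
  simp only [rowOp, CfsgLib.MinDegree.mul_mulVec, iota_mulVec, uRow_mulVec, Fin.cons_zero, Fin.tail_cons]
  funext i
  refine Fin.cases ?_ (fun j => Fin.cases ?_ (fun l => ?_) j) i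
  · simp [Fin.tail, dotProduct, Fin.sum_univ_succ]
    simp only [mul_add, Finset.mul_sum, ← add_assoc]
    simp only [mul_assoc]
  · simp [Fin.tail]
  · simp [Fin.tail]

/-- The element cycling the first three coordinates. -/
noncomputable def cycleEl (n : ℕ) : S F (n + 3) := iota (swapEl n) * swapEl (n + 1)

theorem cycleEl_mulVec {n : ℕ} (x : Fin (n + 3) → F) :
    (cycleEl n).1 *ᵥ x = Fin.cons (-x 1) (Fin.cons (-x 2) (Fin.cons (x 0) (Fin.tail (Fin.tail (Fin.tail x))))) := by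
  rw [cycleEl, CfsgLib.MinDegree.mul_mulVec, swapEl_mulVec, iota_mulVec, Fin.cons_zero, Fin.tail_cons, swapEl_mulVec]
  funext i
  refine Fin.cases ?_ (fun j => Fin.cases ?_ (fun l => Fin.cases ?_ (fun r => ?_) l) j) i
  · simp
  · simp [Fin.tail]
  · simp [Fin.tail]
  · simp [Fin.tail]

/-- An element fixing `e₀` up to a scalar normalises the first row. -/
theorem exists_conj_uRow {n : ℕ} (g : S F (n + 1)) (c : F) (hg : g.1 *ᵥ ev (n + 1) 0 = c • ev (n + 1) 0) :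
    ∃ σ : (Fin n → F) ≃+ (Fin n → F), ∀ φ, g * uRow φ = uRow (σ φ) * g := by
  have hc : c ≠ 0 := by
    rintro rfl
    have h1 : (g⁻¹).1 *ᵥ (g.1 *ᵥ ev (n + 1) 0) = (g⁻¹).1 *ᵥ ((0 : F) • ev (n + 1) 0) := by rw [hg]
    rw [zero_smul, Matrix.mulVec_zero, ← CfsgLib.MinDegree.mul_mulVec, inv_mul_cancel,
      CfsgLib.MinDegree.sl_one_mulVec] at h1
    simpa using congrFun h1 0
  let f : (Fin n → F) →+ (Fin n → F) :=
    { toFun := fun φ => Fin.tail (c • ((Fin.cons 0 φ : Fin (n + 1) → F) ᵥ* (g⁻¹).1))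
      map_zero' := by
        have : (Fin.cons 0 (0 : Fin n → F) : Fin (n + 1) → F) = 0 := by
          funext i
          refine Fin.cases ?_ (fun j => ?_) i <;> simp
        rw [this, Matrix.zero_vecMul, smul_zero]
        rfl
      map_add' := fun φ ψ => by
        have : (Fin.cons 0 (φ + ψ) : Fin (n + 1) → F) = Fin.cons 0 φ + Fin.cons 0 ψ := by
          funext i
          refine Fin.cases ?_ (fun j => ?_) i <;> simp
        rw [this, Matrix.add_vecMul, smul_add]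
        rfl }
  have key : ∀ φ, g * uRow φ = uRow (f φ) * g := by
    intro φ
    set ψ : Fin (n + 1) → F := c • ((Fin.cons 0 φ : Fin (n + 1) → F) ᵥ* (g⁻¹).1) with hψ
    have h0 : ψ 0 = 0 := by
      have h1 : ((Fin.cons 0 φ : Fin (n + 1) → F) ᵥ* (g⁻¹).1) ⬝ᵥ ev (n + 1) 0 = 0 := by
        rw [← Matrix.dotProduct_mulVec]
        have h2 : (g⁻¹).1 *ᵥ ev (n + 1) 0 = c⁻¹ • ev (n + 1) 0 := by
          have h3 : (g⁻¹).1 *ᵥ (g.1 *ᵥ ev (n + 1) 0) = (g⁻¹).1 *ᵥ (c • ev (n + 1) 0) := by rw [hg]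
          rw [Matrix.mulVec_smul, ← CfsgLib.MinDegree.mul_mulVec, inv_mul_cancel,
            CfsgLib.MinDegree.sl_one_mulVec] at h3
          rw [eq_inv_smul_iff₀ hc]
          exact h3.symm
        rw [h2, dotProduct_smul, uRow_perp, smul_zero]
      simp only [dotProduct_single, mul_one] at h1
      rw [hψ, Pi.smul_apply, h1, smul_zero]
    refine ext_mulVec fun x => ?_
    show (g * uRow φ).1 *ᵥ x = (uRow (Fin.tail ψ) * g).1 *ᵥ x
    have e1 : uRow (Fin.tail ψ) = CfsgLib.MinDegree.tv (Pi.single 0 1) ψ := by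
      rw [uRow]
      congr 1
      conv_rhs => rw [← Fin.cons_self_tail ψ, h0]
    have hperp : ψ ⬝ᵥ Pi.single 0 1 = 0 := by simp [h0]
    rw [e1, CfsgLib.MinDegree.mul_mulVec, CfsgLib.MinDegree.mul_mulVec, uRow,
      CfsgLib.MinDegree.tv_mulVec (uRow_perp φ), CfsgLib.MinDegree.tv_mulVec hperp, Matrix.mulVec_add,
      Matrix.mulVec_smul, hψ, smul_dotProduct, ← Matrix.dotProduct_mulVec, ← CfsgLib.MinDegree.mul_mulVec,
      inv_mul_cancel, CfsgLib.MinDegree.sl_one_mulVec]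
    show _ + _ • (g.1 *ᵥ ev (n + 1) 0) = _
    rw [hg, smul_smul, mul_comm]
    rfl
  have hinj : Function.Injective f := by
    rw [injective_iff_map_eq_zero]
    intro φ h
    have h1 := key φ
    rw [h, ← zRow_apply (0 : Fin n → F), AddChar.map_zero_eq_one, one_mul, mul_eq_left] at h1
    funext i
    have h2 := congrFun (congrArg (fun u : S F (n + 1) => u.1 *ᵥ ev (n + 1) i.succ) h1) 0
    simp only [uRow_mulVec, CfsgLib.MinDegree.sl_one_mulVec] at h2
    simpa [dotProduct, Fin.tail, Pi.single_apply, Fin.succ_ne_zero] using h2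
  have hsurj : Function.Surjective f := by
    intro ψ
    refine ⟨Fin.tail (c⁻¹ • ((Fin.cons 0 ψ : Fin (n + 1) → F) ᵥ* g.1)), ?_⟩
    show Fin.tail (c • ((Fin.cons 0 (Fin.tail (c⁻¹ • ((Fin.cons 0 ψ : Fin (n + 1) → F) ᵥ* g.1))) : Fin (n + 1) → F)
      ᵥ* (g⁻¹).1)) = ψ
    have h0 : (c⁻¹ • ((Fin.cons 0 ψ : Fin (n + 1) → F) ᵥ* g.1)) 0 = 0 := by
      have h1 : ((Fin.cons 0 ψ : Fin (n + 1) → F) ᵥ* g.1) ⬝ᵥ ev (n + 1) 0 = 0 := by
        rw [← Matrix.dotProduct_mulVec, hg, dotProduct_smul, uRow_perp, smul_zero]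
      simp only [dotProduct_single, mul_one] at h1
      rw [Pi.smul_apply, h1, smul_zero]
    rw [show (Fin.cons 0 (Fin.tail (c⁻¹ • ((Fin.cons 0 ψ : Fin (n + 1) → F) ᵥ* g.1))) : Fin (n + 1) → F) =
      c⁻¹ • ((Fin.cons 0 ψ : Fin (n + 1) → F) ᵥ* g.1) by conv_rhs => rw [← Fin.cons_self_tail (c⁻¹ • _), h0],
      Matrix.smul_vecMul, smul_inv_smul₀ hc, Matrix.vecMul_vecMul, ← Matrix.SpecialLinearGroup.coe_mul,
      mul_inv_cancel, Matrix.SpecialLinearGroup.coe_one, Matrix.vecMul_one, Fin.tail_cons]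
  exact ⟨AddEquiv.ofBijective f ⟨hinj, hsurj⟩, key⟩

end CfsgLib.RepBounds.SLR
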