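import Cfsg.Agent.RepBounds.SL.Setup
import Cfsg.Agent.RepBounds.Proj
import Cfsg.Agent.RepBounds.FieldChar

/-!
# Weights of the first two rows in representations of `SL`
-/

set_option autoImplicit false
set_option linter.unusedSectionVars false

namespace CfsgLib.RepBounds.SLR

open Matrix Module CfsgLib.RepBounds

variable {F : Type*} [Field F] [Fintype F] [DecidableEq F] {V : Type*} [AddCommGroup V] [Module ℂ V]
  [FiniteDimensional ℂ V] (ε : AddChar F ℂ)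

/-- The character of row vectors attached to a column. -/
noncomputable def col {n : ℕ} (a : Fin n → F) : AddChar (Fin n → F) ℂ :=
  ε.compAddMonoidHom
    { toFun := fun φ => φ ⬝ᵥ a
      map_zero' := zero_dotProduct a
      map_add' := fun φ ψ => add_dotProduct φ ψ a }

theorem col_apply {n : ℕ} (a φ : Fin n → F) : col ε a φ = ε (φ ⬝ᵥ a) := rfl

theorem col_injective (hε : ε.IsPrimitive) {n : ℕ} : Function.Injective (col ε : (Fin n → F) → _) := by
  intro a b h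
  funext i
  apply AddChar.to_mulShift_inj_of_isPrimitive hε
  refine DFunLike.ext _ _ fun t => ?_
  have := DFunLike.congr_fun h (Pi.single i t)
  simp only [col_apply, single_dotProduct] at this
  rw [AddChar.mulShift_apply, AddChar.mulShift_apply, mul_comm (a i), mul_comm (b i)]
  exact this

theorem col_bijective (hε : ε.IsPrimitive) {n : ℕ} : Function.Bijective (col ε : (Fin n → F) → _) :=
  (Fintype.bijective_iff_injective_and_card _).mpr ⟨col_injective ε hε, (AddChar.card_eq (α := Fin n → F)).symm⟩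

theorem col_zero {n : ℕ} : col ε (0 : Fin n → F) = 0 := by
  refine DFunLike.ext _ _ fun φ => ?_
  rw [col_apply, dotProduct_zero, AddChar.map_zero_eq_one, AddChar.zero_apply]

/-- The projector on a weight of the first row. -/
noncomputable def P {n : ℕ} (ρ : Representation ℂ (S F (n + 1)) V) (a : Fin n → F) : End ℂ V :=
  proj (resChar ρ (zRow F n)) (col ε a)

/-- The embedding of the row vectors vanishing on the second column. -/
def embTail (F : Type*) [Field F] (n : ℕ) : (Fin n → F) →+ (Fin (n + 1) → F) where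
  toFun φ := Fin.cons 0 φ
  map_zero' := by
    funext i
    refine Fin.cases ?_ (fun j => ?_) i <;> simp
  map_add' φ ψ := by
    funext i
    refine Fin.cases ?_ (fun j => ?_) i <;> simp

/-- The projector of the first row restricted to the columns from the third on. -/
noncomputable def R1 {n : ℕ} (ρ : Representation ℂ (S F (n + 2)) V) (a : Fin n → F) : End ℂ V :=
  proj ((resChar ρ (zRow F (n + 1))).compAddMonoidHom (embTail F n)) (col ε a)

/-- The projector of the second row. -/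
noncomputable def R2 {n : ℕ} (ρ : Representation ℂ (S F (n + 2)) V) (b : Fin n → F) : End ℂ V :=
  P ε (MonoidHom.comp ρ iota) b

variable {ε}

theorem cons_vecMul_iota {n : ℕ} (h : S F n) (φ : Fin n → F) :
    (Fin.cons 0 φ : Fin (n + 1) → F) ᵥ* (iota h).1 = Fin.cons 0 (φ ᵥ* h.1) := by
  refine dotProduct_eq _ _ fun x => ?_
  rw [← Matrix.dotProduct_mulVec, iota_mulVec]
  have e : ∀ (u : Fin n → F) (y : Fin (n + 1) → F), (Fin.cons 0 u : Fin (n + 1) → F) ⬝ᵥ y = u ⬝ᵥ Fin.tail y :=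
    fun u y => by simp [dotProduct, Fin.sum_univ_succ, Fin.tail]
  rw [e, e, Fin.tail_cons, Matrix.dotProduct_mulVec]

section basic

variable {n : ℕ} (ρ : Representation ℂ (S F (n + 1)) V)

theorem P_idem (a : Fin n → F) : P ε ρ a * P ε ρ a = P ε ρ a := proj_mul_proj _ _

theorem P_orth (hε : ε.IsPrimitive) {a b : Fin n → F} (h : a ≠ b) : P ε ρ a * P ε ρ b = 0 :=
  proj_orth _ fun he => h (col_injective ε hε he)

theorem sum_P (hε : ε.IsPrimitive) : ∑ a : Fin n → F, P ε ρ a = 1 := by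
  rw [← sum_proj (resChar ρ (zRow F n))]
  exact Fintype.sum_bijective _ (col_bijective ε hε) _ _ fun a => rfl

theorem uRow_mul_P (φ a : Fin n → F) : ρ (uRow φ) * P ε ρ a = ε (φ ⬝ᵥ a) • P ε ρ a :=
  map_mul_proj (resChar ρ (zRow F n)) (col ε a) φ

theorem uRow_mul_P_zero (φ : Fin n → F) : ρ (uRow φ) * P ε ρ 0 = P ε ρ 0 := by
  rw [uRow_mul_P, dotProduct_zero, AddChar.map_zero_eq_one, one_smul]

theorem iota_mul_P (h : S F n) (a : Fin n → F) :
    ρ (iota h) * P ε ρ a = P ε ρ (h.1 *ᵥ a) * ρ (iota h) := by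
  rw [P, conj_proj (resChar ρ (zRow F n)) _ (ρ (iota h)) (rowEquiv h) fun φ => ?_, P]
  · congr 2
    refine DFunLike.ext _ _ fun φ => ?_
    simp only [AddChar.compAddMonoidHom_apply, col_apply, AddEquiv.coe_toAddMonoidHom]
    show ε ((φ ᵥ* h.1) ⬝ᵥ a) = _
    rw [← Matrix.dotProduct_mulVec]
  · rw [resChar_apply, resChar_apply, ← map_mul ρ, ← map_mul ρ, zRow_apply, zRow_apply, iota_mul_uRow]
    rfl

theorem iota_comm_P (h : S F n) {a : Fin n → F} (ha : h.1 *ᵥ a = a) :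
    ρ (iota h) * P ε ρ a = P ε ρ a * ρ (iota h) := by
  rw [iota_mul_P, ha]

theorem fix_comm_P_zero (g : S F (n + 1)) (c : F) (hg : g.1 *ᵥ ev (n + 1) 0 = c • ev (n + 1) 0) :
    ρ g * P ε ρ 0 = P ε ρ 0 * ρ g := by
  obtain ⟨σ, hσ⟩ := exists_conj_uRow g c hg
  rw [P, conj_proj (resChar ρ (zRow F n)) _ (ρ g) σ fun φ => ?_, col_zero]
  · congr 2
  · rw [resChar_apply, resChar_apply, ← map_mul ρ, ← map_mul ρ, zRow_apply, zRow_apply, hσ]

theorem rnk_P_eq (hn : 2 ≤ n) {a b : Fin n → F} (ha : a ≠ 0) (hb : b ≠ 0) :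
    rnk (P ε ρ a) = rnk (P ε ρ b) := by
  obtain ⟨h, hh⟩ := CfsgLib.MinDegree.exists_mulVec_eq (by simpa using hn) ha hb
  have h1 : ρ (iota h) * P ε ρ a * ρ (iota h⁻¹) = P ε ρ b := by
    rw [iota_mul_P, hh, mul_assoc, ← map_mul, ← map_mul, mul_inv_cancel, map_one, map_one, mul_one]
  rw [← h1, rnk_conj _ _ (by rw [← map_mul, ← map_mul, inv_mul_cancel, map_one, map_one]) (P_idem ρ a)]

theorem finrank_eq (hε : ε.IsPrimitive) (hn : 2 ≤ n) {a : Fin n → F} (ha : a ≠ 0) :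
    finrank ℂ V = rnk (P ε ρ 0) + (Fintype.card F ^ n - 1) * rnk (P ε ρ a) := by
  classical
  have h1 : rnk (1 : End ℂ V) = finrank ℂ V := by
    rw [rnk, Module.End.one_eq_id, LinearMap.range_id, finrank_top]
  rw [← h1, ← rnk_sum Finset.univ (P ε ρ) 1 (fun b _ => P_idem ρ b) (one_mul 1) (sum_P ρ hε),
    ← Finset.add_sum_erase _ _ (Finset.mem_univ (0 : Fin n → F)),
    Finset.sum_congr rfl (fun b hb => rnk_P_eq ρ hn (Finset.ne_of_mem_erase hb) ha), Finset.sum_const,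
    Finset.card_erase_of_mem (Finset.mem_univ _), Finset.card_univ, Fintype.card_fun, Fintype.card_fin, smul_eq_mul]

theorem apply_eq_one_of_uRow (h : ∀ φ : Fin n → F, ρ (uRow φ) = 1) (g : S F (n + 1)) : ρ g = 1 := by
  rcases Nat.eq_zero_or_pos n with rfl | hn
  · rw [show g = 1 from Subtype.ext (Matrix.ext fun i j => by
      have h1 := g.2
      rw [Matrix.det_fin_one] at h1
      obtain rfl : i = 0 := Fin.fin_one_eq_zero i
      obtain rfl : j = 0 := Fin.fin_one_eq_zero j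
      simpa using h1)]
    exact map_one ρ
  suffices hker : MonoidHom.ker ρ = ⊤ by
    exact (MonoidHom.mem_ker).mp (show g ∈ MonoidHom.ker ρ by rw [hker]; trivial)
  refine CfsgLib.MinDegree.eq_top_of_tv_mem fun e φ he => ?_
  rcases eq_or_ne e 0 with rfl | he0
  · rw [CfsgLib.MinDegree.tv_zero_left]
    exact one_mem _
  obtain ⟨k, hk⟩ := CfsgLib.MinDegree.exists_mulVec_eq (ι := Fin (n + 1))
    (show 2 ≤ Fintype.card (Fin (n + 1)) by simp; omega)
    (e := ev (n + 1) 0) (fun h0 => one_ne_zero (α := F) (by simpa using congrFun h0 0)) he0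
  have h0 : (φ ᵥ* k.1) 0 = 0 := by
    have h1 : (φ ᵥ* k.1) ⬝ᵥ ev (n + 1) 0 = 0 := by rw [← Matrix.dotProduct_mulVec, hk, he]
    simpa using h1
  have hperp : (φ ᵥ* k.1) ⬝ᵥ ev (n + 1) 0 = 0 := by simp [h0]
  have h1 : k * CfsgLib.MinDegree.tv (ev (n + 1) 0) (φ ᵥ* k.1) * k⁻¹ = CfsgLib.MinDegree.tv e φ :=
    CfsgLib.MinDegree.tv_conj hperp hk rfl
  have h2 : CfsgLib.MinDegree.tv (ev (n + 1) 0) (φ ᵥ* k.1) = uRow (Fin.tail (φ ᵥ* k.1)) := by
    rw [uRow]
    congr 1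
    conv_lhs => rw [← Fin.cons_self_tail (φ ᵥ* k.1), h0]
  rw [MonoidHom.mem_ker, ← h1, h2, map_mul, map_mul, h, mul_one, ← map_mul, mul_inv_cancel, map_one]

theorem apply_eq_one_of_P (hε : ε.IsPrimitive) (h : ∀ a : Fin n → F, a ≠ 0 → P ε ρ a = 0) (g : S F (n + 1)) :
    ρ g = 1 := by
  classical
  refine apply_eq_one_of_uRow ρ (fun φ => ?_) g
  have h0 : P ε ρ 0 = 1 := by
    rw [← sum_P ρ hε, Finset.sum_eq_single 0 (fun b _ hb => h b hb) (by simp)]
  have := uRow_mul_P_zero (ε := ε) ρ φ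
  rwa [h0, mul_one] at this

end basic

section rows

variable {n : ℕ} (ρ : Representation ℂ (S F (n + 2)) V)

theorem R1_idem (a : Fin n → F) : R1 ε ρ a * R1 ε ρ a = R1 ε ρ a := proj_mul_proj _ _

theorem R2_idem (b : Fin n → F) : R2 ε ρ b * R2 ε ρ b = R2 ε ρ b := proj_mul_proj _ _

theorem uRow_cons_mul_R1 (φ a : Fin n → F) : ρ (uRow (Fin.cons 0 φ)) * R1 ε ρ a = ε (φ ⬝ᵥ a) • R1 ε ρ a :=
  map_mul_proj ((resChar ρ (zRow F (n + 1))).compAddMonoidHom (embTail F n)) (col ε a) φ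

theorem iota_uRow_mul_R2 (ψ b : Fin n → F) : ρ (iota (uRow ψ)) * R2 ε ρ b = ε (ψ ⬝ᵥ b) • R2 ε ρ b :=
  uRow_mul_P (MonoidHom.comp ρ iota) ψ b

theorem sum_R2 (hε : ε.IsPrimitive) : ∑ b : Fin n → F, R2 ε ρ b = 1 := sum_P _ hε

theorem R1_comm (X : End ℂ V) (h : ∀ φ : Fin n → F, X * ρ (uRow (Fin.cons 0 φ)) = ρ (uRow (Fin.cons 0 φ)) * X)
    (a : Fin n → F) : X * R1 ε ρ a = R1 ε ρ a * X :=
  proj_comm _ _ X h

theorem R2_comm (X : End ℂ V) (h : ∀ ψ : Fin n → F, X * ρ (iota (uRow ψ)) = ρ (iota (uRow ψ)) * X)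
    (b : Fin n → F) : X * R2 ε ρ b = R2 ε ρ b * X :=
  proj_comm _ _ X h

theorem R1_R2_comm (a b : Fin n → F) : R1 ε ρ a * R2 ε ρ b = R2 ε ρ b * R1 ε ρ a := by
  refine R2_comm ρ _ (fun ψ => ?_) b
  refine (R1_comm ρ _ (fun φ => ?_) a).symm
  rw [← map_mul, ← map_mul, (uRow_cons_comm φ ψ).eq]

theorem Q_idem (a b : Fin n → F) : R1 ε ρ a * R2 ε ρ b * (R1 ε ρ a * R2 ε ρ b) = R1 ε ρ a * R2 ε ρ b := by
  rw [mul_assoc, ← mul_assoc (R2 ε ρ b), ← R1_R2_comm, ← mul_assoc, ← mul_assoc, R1_idem, mul_assoc, R2_idem]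

theorem R1_eq_sum (hε : ε.IsPrimitive) (a : Fin n → F) : R1 ε ρ a = ∑ c : F, P ε ρ (Fin.cons c a) := by
  classical
  rw [R1, proj_push, Finset.sum_filter, ← Fintype.sum_bijective _ (col_bijective ε hε (n := n + 1)) _ _ fun _ => rfl]
  rw [← (Fin.consEquiv fun _ : Fin (n + 1) => F).sum_comp, Fintype.sum_prod_type]
  refine Finset.sum_congr rfl fun c _ => ?_
  have key : ∀ a' : Fin n → F, ((col ε (Fin.cons c a')).compAddMonoidHom (embTail F n) = col ε a ↔ a' = a) := by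
    intro a'
    rw [← (col_injective ε hε).eq_iff]
    suffices h : (col ε (Fin.cons c a')).compAddMonoidHom (embTail F n) = col ε a' by rw [h]
    refine DFunLike.ext _ _ fun φ => ?_
    simp [AddChar.compAddMonoidHom_apply, col_apply, embTail, dotProduct, Fin.sum_univ_succ]
  rw [Finset.sum_eq_single a]
  · exact if_pos ((key a).mpr rfl)
  · intro a' _ ha'
    exact if_neg (mt (key a').mp ha')
  · simp

theorem swap_mul_R1 (a : Fin n → F) : ρ (swapEl n) * R1 ε ρ a = R2 ε ρ a * ρ (swapEl n) := by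
  rw [R1, R2, P]
  simp only [proj, mul_smul_comm, smul_mul_assoc, Finset.mul_sum, Finset.sum_mul, AddChar.compAddMonoidHom_apply,
    resChar_apply]
  congr 1
  refine Finset.sum_congr rfl fun φ _ => ?_
  congr 1
  rw [MonoidHom.comp_apply, ← map_mul, ← map_mul, zRow_apply, zRow_apply]
  show ρ (swapEl n * uRow (Fin.cons 0 φ)) = _
  rw [swapEl_mul_uRow]

theorem swap_mul_R2 (b : Fin n → F) : ρ (swapEl n) * R2 ε ρ b = R1 ε ρ (-b) * ρ (swapEl n) := by
  rw [R1, R2, P]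
  simp only [proj, mul_smul_comm, smul_mul_assoc, Finset.mul_sum, Finset.sum_mul, AddChar.compAddMonoidHom_apply,
    resChar_apply]
  congr 1
  refine Fintype.sum_equiv (Equiv.neg _) _ _ fun ψ => ?_
  congr 1
  · simp [col_apply, dotProduct_neg]
  · rw [MonoidHom.comp_apply, ← map_mul, ← map_mul, zRow_apply, zRow_apply]
    show ρ (swapEl n * iota (uRow ψ)) = ρ (uRow (Fin.cons 0 (-ψ)) * swapEl n)
    rw [swapEl_mul_iota]

theorem rowOp_mul_Q (t : F) (a b : Fin n → F) :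
    ρ (rowOp n t) * (R1 ε ρ a * R2 ε ρ b) = R1 ε ρ a * R2 ε ρ (b - t • a) * ρ (rowOp n t) := by
  have h1 : ρ (rowOp n t) * R1 ε ρ a = R1 ε ρ a * ρ (rowOp n t) :=
    R1_comm ρ _ (fun φ => by rw [← map_mul, ← map_mul, (rowOp_comm t φ).eq]) a
  rw [← mul_assoc, h1, mul_assoc, R2, R2, P, P]
  simp only [proj, mul_smul_comm, smul_mul_assoc, Finset.mul_sum, Finset.sum_mul, resChar_apply]
  congr 1
  refine Finset.sum_congr rfl fun ψ _ => ?_
  have h2 : R1 ε ρ a * ρ (uRow (Fin.cons 0 (t • ψ))) = ε (t * (ψ ⬝ᵥ a)) • R1 ε ρ a := by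
    rw [← R1_comm ρ (ρ (uRow (Fin.cons 0 (t • ψ)))) (fun φ => ?_) a, uRow_cons_mul_R1, smul_dotProduct,
      smul_eq_mul]
    rw [← map_mul, ← map_mul]
    congr 1
    show zRow F (n + 1) _ * zRow F (n + 1) _ = zRow F (n + 1) _ * zRow F (n + 1) _
    exact (AddChar.map_add_eq_mul _ _ _).symm.trans
      ((congrArg (zRow F (n + 1)) (add_comm _ _)).trans (AddChar.map_add_eq_mul _ _ _))
  have h3 : col ε b (-ψ) * ε (t * (ψ ⬝ᵥ a)) = col ε (b - t • a) (-ψ) := by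
    rw [col_apply, col_apply, ← AddChar.map_add_eq_mul, dotProduct_sub, neg_dotProduct, neg_dotProduct,
      dotProduct_smul, smul_eq_mul, sub_neg_eq_add]
  simp only [MonoidHom.comp_apply, zRow_apply]
  rw [← map_mul, rowOp_mul_iota, map_mul, map_mul, ← mul_assoc, ← mul_assoc, h2]
  simp only [smul_mul_assoc, smul_smul, h3, mul_assoc]

theorem iota_iota_mul_R1 (h : S F n) (a : Fin n → F) :
    ρ (iota (iota h)) * R1 ε ρ a = R1 ε ρ (h.1 *ᵥ a) * ρ (iota (iota h)) := by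
  rw [R1, conj_proj ((resChar ρ (zRow F (n + 1))).compAddMonoidHom (embTail F n)) _ (ρ (iota (iota h))) (rowEquiv h)
    fun φ => ?_, R1]
  · congr 2
    refine DFunLike.ext _ _ fun φ => ?_
    simp only [AddChar.compAddMonoidHom_apply, col_apply, AddEquiv.coe_toAddMonoidHom]
    show ε ((φ ᵥ* h.1) ⬝ᵥ a) = _
    rw [← Matrix.dotProduct_mulVec]
  · simp only [AddChar.compAddMonoidHom_apply, resChar_apply]
    rw [← map_mul, ← map_mul, zRow_apply, zRow_apply, iota_mul_uRow]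
    congr 3
    show (Fin.cons 0 φ : Fin (n + 1) → F) ᵥ* ((iota h)⁻¹).1 = Fin.cons 0 (φ ᵥ* (h⁻¹).1)
    rw [← map_inv]
    exact cons_vecMul_iota _ φ

theorem iota_iota_mul_R2 (h : S F n) (b : Fin n → F) :
    ρ (iota (iota h)) * R2 ε ρ b = R2 ε ρ (h.1 *ᵥ b) * ρ (iota (iota h)) :=
  iota_mul_P (MonoidHom.comp ρ iota) h b

theorem iota_iota_mul_Q (h : S F n) (a b : Fin n → F) :
    ρ (iota (iota h)) * (R1 ε ρ a * R2 ε ρ b) =
      R1 ε ρ (h.1 *ᵥ a) * R2 ε ρ (h.1 *ᵥ b) * ρ (iota (iota h)) := by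
  rw [← mul_assoc, iota_iota_mul_R1, mul_assoc, iota_iota_mul_R2, ← mul_assoc]

theorem rnk_eq_of_conj (g : S F (n + 2)) {e f : End ℂ V} (he : e * e = e) (h : ρ g * e = f * ρ g) :
    rnk f = rnk e := by
  have h1 : ρ g * e * ρ g⁻¹ = f := by rw [h, mul_assoc, ← map_mul, mul_inv_cancel, map_one, mul_one]
  rw [← h1, rnk_conj _ _ (by rw [← map_mul, inv_mul_cancel, map_one]) he]

theorem rnk_Q_row (a : Fin n → F) (c : F) :
    rnk (R1 ε ρ a * R2 ε ρ (c • a)) = rnk (R1 ε ρ a * R2 ε ρ 0) := by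
  have h := rowOp_mul_Q (ε := ε) ρ c a (c • a)
  rw [sub_self] at h
  exact (rnk_eq_of_conj ρ _ (Q_idem ρ _ _) h).symm

theorem rnk_Q_swap (b : Fin n → F) :
    rnk (R1 ε ρ 0 * R2 ε ρ b) = rnk (R1 ε ρ (-b) * R2 ε ρ 0) := by
  refine (rnk_eq_of_conj ρ (swapEl n) (Q_idem ρ 0 b) ?_).symm
  rw [← mul_assoc, swap_mul_R1, mul_assoc, swap_mul_R2, ← mul_assoc, R1_R2_comm]

theorem sum_rnk_Q (hε : ε.IsPrimitive) (a : Fin n → F) :
    ∑ b : Fin n → F, rnk (R1 ε ρ a * R2 ε ρ b) = rnk (R1 ε ρ a) :=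
  rnk_sum Finset.univ _ _ (fun b _ => Q_idem ρ a b) (R1_idem ρ a) (by rw [← Finset.mul_sum, sum_R2 ρ hε, mul_one])

theorem rnk_R1 (hε : ε.IsPrimitive) (a : Fin n → F) :
    rnk (R1 ε ρ a) = ∑ c : F, rnk (P ε ρ (Fin.cons c a)) :=
  (rnk_sum Finset.univ _ _ (fun _ _ => P_idem ρ _) (R1_idem ρ a) (R1_eq_sum ρ hε a).symm).symm

end rows

end CfsgLib.RepBounds.SLR
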